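import Mathlib
import Cfsg.Prelude.Def_ParabolicCharacters

/-! Bruhat decomposition of the general linear group with respect to upper triangular matrices. -/

set_option autoImplicit false

namespace Cfsg.Agent.GLFlag

open Matrix
open scoped MatrixGroups

variable {n : ℕ} {F : Type*} [Field F]

/-- The permutation matrix sending the `j`th basis vector to the `σ j`th. -/
def permMat (F : Type*) [Field F] (σ : Equiv.Perm (Fin n)) : Matrix (Fin n) (Fin n) F :=
  Matrix.of fun i j => if σ j = i then 1 else 0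

@[simp] theorem permMat_apply (σ : Equiv.Perm (Fin n)) (i j : Fin n) :
    permMat F σ i j = if σ j = i then 1 else 0 := rfl

theorem permMat_mul (σ τ : Equiv.Perm (Fin n)) :
    permMat F σ * permMat F τ = permMat F (σ * τ) := by
  ext i j
  simp [Matrix.mul_apply, Equiv.Perm.mul_apply, mul_ite]
  congr

theorem permMat_one : permMat F (1 : Equiv.Perm (Fin n)) = 1 := by
  ext i j; simp [Matrix.one_apply, eq_comm]

/-- Permutation matrices as a homomorphism to the general linear group. -/
def permGL (F : Type*) [Field F] : Equiv.Perm (Fin n) →* GL (Fin n) F where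
  toFun σ := ⟨permMat F σ, permMat F σ⁻¹,
    by rw [permMat_mul, mul_inv_cancel, permMat_one],
    by rw [permMat_mul, inv_mul_cancel, permMat_one]⟩
  map_one' := Units.ext permMat_one
  map_mul' σ τ := Units.ext (permMat_mul σ τ).symm

@[simp] theorem coe_permGL (σ : Equiv.Perm (Fin n)) :
    ((permGL F σ : GL (Fin n) F) : Matrix (Fin n) (Fin n) F) = permMat F σ := rfl

theorem mem_upper {g : GL (Fin n) F} :
    g ∈ Cfsg.upperTriangularGL n F ↔
      ∀ i j : Fin n, j < i → (g : Matrix (Fin n) (Fin n) F) i j = 0 :=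
  ⟨fun h i j hij => h hij, fun h i j hij => h i j hij⟩

/-- The unit `1 + v wᵀ` for orthogonal `v`, `w`. -/
def rankOneUnit (v w : Fin n → F) (h : w ⬝ᵥ v = 0) : GL (Fin n) F :=
  ⟨1 + vecMulVec v w, 1 - vecMulVec v w,
    by simp [add_mul, mul_sub, vecMulVec_mul_vecMulVec, h],
    by simp [sub_mul, mul_add, vecMulVec_mul_vecMulVec, h]⟩

theorem rankOneUnit_mem_upper (v w : Fin n → F) (h : w ⬝ᵥ v = 0)
    (h' : ∀ i j : Fin n, j < i → v i * w j = 0) :
    rankOneUnit v w h ∈ Cfsg.upperTriangularGL n F := by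
  rw [mem_upper]
  intro i j hij
  simp [rankOneUnit, Matrix.one_apply, hij.ne', vecMulVec_apply, h' i j hij]

theorem rankOneUnit_mul_apply (v : Fin n → F) (r : Fin n)
    (h : Pi.single r 1 ⬝ᵥ v = 0) (g : Matrix (Fin n) (Fin n) F) (i m : Fin n) :
    ((rankOneUnit v (Pi.single r 1) h : Matrix (Fin n) (Fin n) F) * g) i m =
      g i m + v i * g r m := by
  simp [rankOneUnit, add_mul, vecMulVec_apply, Matrix.mul_apply, Pi.single_apply,
    Finset.sum_add_distrib, Matrix.one_apply]

theorem mul_rankOneUnit_apply (c : Fin n) (w : Fin n → F)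
    (h : w ⬝ᵥ Pi.single c 1 = 0) (g : Matrix (Fin n) (Fin n) F) (i m : Fin n) :
    (g * (rankOneUnit (Pi.single c 1) w h : Matrix (Fin n) (Fin n) F)) i m =
      g i m + g i c * w m := by
  simp [rankOneUnit, mul_add, vecMulVec_apply, Matrix.mul_apply, Pi.single_apply,
    Finset.sum_add_distrib, Matrix.one_apply]

/-- One step of the elimination. -/
def Reduced (g : GL (Fin n) F) (j : ℕ) (f : Fin n → Fin n) : Prop :=
  ∀ k : Fin n, k.val < j →
    (g : Matrix (Fin n) (Fin n) F) (f k) k ≠ 0 ∧
      (∀ i, i ≠ f k → (g : Matrix (Fin n) (Fin n) F) i k = 0) ∧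
      ∀ m, m ≠ k → (g : Matrix (Fin n) (Fin n) F) (f k) m = 0

theorem exists_reduced (g : GL (Fin n) F) (j : ℕ) (hj : j ≤ n) :
    ∃ L ∈ Cfsg.upperTriangularGL n F, ∃ R ∈ Cfsg.upperTriangularGL n F, ∃ f,
      Reduced (L * g * R) j f := by
  classical
  induction j with
  | zero => exact ⟨1, one_mem _, 1, one_mem _, id, fun k hk => absurd hk (Nat.not_lt_zero _)⟩
  | succ j ih =>
    obtain ⟨L, hL, R, hR, f, hf⟩ := ih (by omega)
    set h := L * g * R with hh
    set A := (h : Matrix (Fin n) (Fin n) F) with hA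
    set c : Fin n := ⟨j, by omega⟩ with hc
    have hne : (Finset.univ.filter fun i => A i c ≠ 0).Nonempty := by
      by_contra hn
      rw [Finset.not_nonempty_iff_eq_empty, Finset.filter_eq_empty_iff] at hn
      have : A.det = 0 := Matrix.det_eq_zero_of_column_eq_zero c fun i => by
        simpa using hn (Finset.mem_univ i)
      exact h.det.ne_zero this
    set r := (Finset.univ.filter fun i => A i c ≠ 0).max' hne with hr
    have hr0 : A r c ≠ 0 := (Finset.mem_filter.1 (Finset.max'_mem _ hne)).2
    have hbelow : ∀ i, r < i → A i c = 0 := fun i hi => by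
      by_contra hi'
      exact (not_le.2 hi) (Finset.le_max' _ i (by simp [hi']))
    have hrf : ∀ k : Fin n, k.val < j → r ≠ f k ∧ A (f k) c = 0 := fun k hk => by
      have hck : c ≠ k := fun e => by rw [← e] at hk; simp [hc] at hk
      have h0 := (hf k hk).2.2 c hck
      exact ⟨fun e => hr0 (by rw [e]; exact h0), h0⟩
    set v : Fin n → F := fun i => if i = r then 0 else -(A i c / A r c) with hv
    have hvr : (Pi.single r (1 : F) : Fin n → F) ⬝ᵥ v = 0 := by simp [hv]
    set L' := rankOneUnit v _ hvr with hL'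
    have hL'm : L' ∈ Cfsg.upperTriangularGL n F := rankOneUnit_mem_upper _ _ _ fun i k hki => by
      by_cases hk : k = r
      · have : r < i := hk ▸ hki
        simp [hv, hbelow i this, this.ne']
      · simp [Pi.single_apply, hk]
    set A' : Matrix (Fin n) (Fin n) F := ((L' * h : GL (Fin n) F) : Matrix (Fin n) (Fin n) F)
      with hA'
    have hA'eq : ∀ i m, A' i m = A i m + v i * A r m := fun i m => by
      rw [hA', Units.val_mul, hL']
      exact rankOneUnit_mul_apply v r hvr A i m
    set w : Fin n → F := fun m => if m = c then 0 else -(A r m / A r c) with hw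
    have hwc : w ⬝ᵥ (Pi.single c (1 : F) : Fin n → F) = 0 := by simp [hw]
    set R' := rankOneUnit _ w hwc with hR'
    have hR'm : R' ∈ Cfsg.upperTriangularGL n F := rankOneUnit_mem_upper _ _ _ fun i m hmi => by
      by_cases hi : i = c
      · have hm : m.val < j := by
          have : m.val < i.val := hmi
          simpa [hi, hc] using this
        have : A r m = 0 := (hf m hm).2.1 r (hrf m hm).1
        simp [hw, this]
      · simp [Pi.single_apply, hi]
    set A'' : Matrix (Fin n) (Fin n) F := (((L' * h) * R' : GL (Fin n) F) : Matrix (Fin n) (Fin n) F)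
      with hA''
    have hA''eq : ∀ i m, A'' i m = A' i m + A' i c * w m := fun i m => by
      rw [hA'', Units.val_mul, hR']
      exact mul_rankOneUnit_apply c w hwc A' i m
    have hcol : ∀ i, i ≠ r → A' i c = 0 := fun i hi => by
      rw [hA'eq]; simp [hv, hi]; field_simp; ring
    have hrow : ∀ m, A' r m = A r m := fun m => by rw [hA'eq]; simp [hv]
    refine ⟨L' * L, mul_mem hL'm hL, R * R', mul_mem hR hR'm, Function.update f c r, ?_⟩
    have heq : L' * L * g * (R * R') = L' * h * R' := by rw [hh]; group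
    rw [heq]
    intro k hk
    change A'' _ k ≠ 0 ∧ (∀ i, i ≠ _ → A'' i k = 0) ∧ ∀ m, m ≠ k → A'' _ m = 0
    by_cases hkc : k = c
    · subst hkc
      rw [Function.update_self]
      refine ⟨?_, fun i hi => ?_, fun m hm => ?_⟩
      · rw [hA''eq]; simp [hw, hrow, hr0]
      · rw [hA''eq]; simp [hw, hcol i hi]
      · rw [hA''eq]; simp [hw, hm, hrow]; field_simp; ring
    · have hkj : k.val < j := by
        rcases Nat.lt_succ_iff_lt_or_eq.1 hk with h1 | h1
        · exact h1
        · exact absurd (Fin.ext h1) hkc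
      rw [Function.update_of_ne hkc]
      obtain ⟨h1, h2, h3⟩ := hf k hkj
      obtain ⟨hne', hfc⟩ := hrf k hkj
      have hrk : A r k = 0 := h2 r hne'
      have hvf : v (f k) = 0 := by simp [hv, hfc]
      have hA'k : ∀ i, A' i k = A i k := fun i => by rw [hA'eq, hrk]; ring
      have hwk : w k = 0 := by simp [hw, hrk]
      refine ⟨?_, fun i hi => ?_, fun m hm => ?_⟩
      · rw [hA''eq, hA'k, hwk]; simpa using h1
      · rw [hA''eq, hA'k, hwk, mul_zero, add_zero]; exact h2 i hi
      · have e : ∀ m, A' (f k) m = A (f k) m := fun m => by rw [hA'eq, hvf]; ring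
        rw [hA''eq, e, e, hfc, zero_mul, add_zero]; exact h3 m hm

/-- Bruhat decomposition. -/
theorem exists_bruhat (g : GL (Fin n) F) :
    ∃ σ : Equiv.Perm (Fin n), ∃ b₁ ∈ Cfsg.upperTriangularGL n F,
      ∃ b₂ ∈ Cfsg.upperTriangularGL n F, g = b₁ * permGL F σ * b₂ := by
  obtain ⟨L, hL, R, hR, f, hf⟩ := exists_reduced g n le_rfl
  set h := L * g * R with hh
  have hinj : Function.Injective f := fun k k' e => by
    by_contra hne
    obtain ⟨h1, -, -⟩ := hf k k.isLt
    exact h1 (by rw [e]; exact (hf k' k'.isLt).2.2 k hne)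
  set σ := Equiv.ofBijective f (Finite.injective_iff_bijective.1 hinj) with hσ
  have hd : (permGL F σ)⁻¹ * h ∈ Cfsg.upperTriangularGL n F := by
    rw [← map_inv, mem_upper]
    intro i m hmi
    rw [Units.val_mul, coe_permGL, Matrix.mul_apply]
    refine Finset.sum_eq_zero fun k _ => ?_
    rw [permMat_apply]
    split_ifs with hk
    · rw [one_mul]
      refine (hf m m.isLt).2.1 k fun e => hmi.ne' ?_
      rw [← hk, e]
      exact σ.injective (by simp [hσ, Equiv.ofBijective_apply_symm_apply])
    · rw [zero_mul]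
  refine ⟨σ, L⁻¹, inv_mem hL, (permGL F σ)⁻¹ * h * R⁻¹, mul_mem hd (inv_mem hR), ?_⟩
  rw [hh]; group

end Cfsg.Agent.GLFlag
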