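import Mathlib

/-!
The signed chain sum of a finite lattice of submodules and Weisner's complement identity.
-/

set_option autoImplicit false
set_option linter.unusedSectionVars false

namespace Cfsg.Agent.GLFlag.Chains

open Finset
open scoped Classical

universe u v

variable {R : Type u} [Ring R] {M : Type v} [AddCommGroup M] [Module R M] [Finite M]

instance finiteSubmodules : Finite (Submodule R M) :=
  Finite.of_injective (fun W : Submodule R M => (W : Set M)) SetLike.coe_injective

/-- The submodules strictly below `W`. -/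
noncomputable def below (W : Submodule R M) : Finset (Submodule R M) :=
  (Set.toFinite {U : Submodule R M | U < W}).toFinset

@[simp] theorem mem_below {W U : Submodule R M} : U ∈ below W ↔ U < W := by simp [below]

/-- The signed chain sum (Möbius function from the bottom). -/
noncomputable def zeta : Submodule R M → ℤ :=
  WellFounded.fix wellFounded_lt fun W rec =>
    if W = ⊥ then 1 else -∑ U ∈ (below W).attach, rec U.1 (mem_below.1 U.2)

theorem zeta_eq (W : Submodule R M) :
    zeta W = if W = ⊥ then 1 else -∑ U ∈ below W, zeta U := by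
  conv_lhs => rw [zeta, WellFounded.fix_eq]
  simp only [← zeta.eq_def]
  split_ifs with h
  · rfl
  · rw [Finset.sum_attach (below W) fun U => zeta U]

theorem zeta_bot : zeta (⊥ : Submodule R M) = 1 := by rw [zeta_eq, if_pos rfl]

/-- All submodules below or equal. -/
noncomputable def belowEq (W : Submodule R M) : Finset (Submodule R M) :=
  (Set.toFinite {U : Submodule R M | U ≤ W}).toFinset

@[simp] theorem mem_belowEq {W U : Submodule R M} : U ∈ belowEq W ↔ U ≤ W := by simp [belowEq]

theorem sum_zeta {W : Submodule R M} (h : W ≠ ⊥) : ∑ U ∈ belowEq W, zeta U = 0 := by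
  have e : belowEq W = insert W (below W) := by
    ext U; simp [le_iff_eq_or_lt]
  rw [e, sum_insert (by simp), zeta_eq, if_neg h, neg_add_cancel]

theorem sum_zeta_sup {A : Submodule R M} (hA : A ≠ ⊥) :
    ∀ W : Submodule R M, A ≤ W → ∑ U ∈ (belowEq W).filter (fun U => U ⊔ A = W), zeta U = 0 := by
  intro W
  induction W using WellFoundedLT.induction with
  | _ W ih =>
    intro hAW
    have h0 := sum_zeta (W := W) (fun e => hA (le_bot_iff.1 (e ▸ hAW)))
    rw [← sum_fiberwise_of_maps_to (t := (belowEq W).filter fun V => A ≤ V) (g := fun U => U ⊔ A)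
      (fun U hU => by simp only [mem_filter, mem_belowEq] at hU ⊢; exact ⟨sup_le hU hAW, le_sup_right⟩)] at h0
    rw [sum_eq_single_of_mem W (by simp [hAW])] at h0
    · exact h0
    · intro V hV hne
      simp only [mem_filter, mem_belowEq] at hV
      rw [← ih V (lt_of_le_of_ne hV.1 hne) hV.2]
      refine sum_congr ?_ fun _ _ => rfl
      ext U
      simp only [mem_filter, mem_belowEq]
      exact ⟨fun h => ⟨h.2 ▸ le_sup_left, h.2⟩, fun h => ⟨h.1.trans hV.1, h.2⟩⟩

/-- The complements of a minimal submodule inside `W`. -/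
def complIn (A W : Submodule R M) : Set (Submodule R M) := {U | U ⊓ A = ⊥ ∧ U ⊔ A = W}

theorem zeta_eq_sum_compl {A W : Submodule R M} (hA : IsAtom A) (hAW : A ≤ W) :
    zeta W = -∑ U ∈ (Set.toFinite (complIn A W)).toFinset, zeta U := by
  have h := sum_zeta_sup hA.1 W hAW
  rw [← sum_filter_add_sum_filter_not _ (fun U => U ⊓ A = ⊥)] at h
  have e1 : ((belowEq W).filter fun U => U ⊔ A = W).filter (fun U => U ⊓ A = ⊥) =
      (Set.toFinite (complIn A W)).toFinset := by
    ext U
    simp only [mem_filter, mem_belowEq, Set.Finite.mem_toFinset, complIn, Set.mem_setOf_eq]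
    exact ⟨fun h => ⟨h.2, h.1.2⟩, fun h => ⟨⟨h.2 ▸ le_sup_left, h.2⟩, h.1⟩⟩
  have e2 : ((belowEq W).filter fun U => U ⊔ A = W).filter (fun U => ¬ U ⊓ A = ⊥) = {W} := by
    ext U
    simp only [mem_filter, mem_belowEq, mem_singleton]
    constructor
    · rintro ⟨⟨-, h2⟩, h3⟩
      have : A ≤ U := inf_eq_right.1 ((hA.le_iff.1 inf_le_right).resolve_left h3)
      rw [← h2, sup_eq_left.2 this]
    · rintro rfl
      exact ⟨⟨le_rfl, sup_eq_left.2 hAW⟩, by rw [inf_eq_right.2 hAW]; exact hA.1⟩
  rw [e1, e2, sum_singleton] at h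
  linear_combination h

/-- Complements are graphs of maps. -/
noncomputable def graphOf {A W₀ : Submodule R M} (φ : ↥W₀ →ₗ[R] ↥A) : Submodule R M :=
  LinearMap.range (W₀.subtype + A.subtype ∘ₗ φ)

theorem mem_graphOf {A W₀ : Submodule R M} {φ : ↥W₀ →ₗ[R] ↥A} {x : M} :
    x ∈ graphOf φ ↔ ∃ w : ↥W₀, (w : M) + (φ w : M) = x := by
  simp [graphOf, LinearMap.mem_range]

theorem eq_and_eq {A W₀ : Submodule R M} (hd : W₀ ⊓ A = ⊥) {a a' : ↥A} {w w' : ↥W₀}
    (h : (w : M) + a = w' + a') : w = w' ∧ a = a' := by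
  have h2 : (w : M) - w' = a' - a := by rw [sub_eq_sub_iff_add_eq_add, h, add_comm]
  have h3 : (w : M) - w' ∈ W₀ ⊓ A :=
    ⟨W₀.sub_mem w.2 w'.2, h2 ▸ A.sub_mem a'.2 a.2⟩
  rw [hd, Submodule.mem_bot] at h3
  refine ⟨Subtype.ext (sub_eq_zero.1 h3), Subtype.ext ?_⟩
  rw [h3] at h2
  exact (sub_eq_zero.1 h2.symm).symm

theorem card_complIn {A W W₀ : Submodule R M} (hd : W₀ ⊓ A = ⊥) (hs : W₀ ⊔ A = W) :
    Nat.card (complIn A W) = Nat.card (↥W₀ →ₗ[R] ↥A) := by
  refine (Nat.card_congr (Equiv.ofBijective (fun φ => (⟨graphOf φ, ?_, ?_⟩ : complIn A W)) ⟨?_, ?_⟩)).symm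
  · rw [eq_bot_iff]
    rintro x ⟨hx, hxA⟩
    obtain ⟨w, rfl⟩ := mem_graphOf.1 hx
    have hw : (w : M) ∈ A := by simpa using A.sub_mem hxA (φ w).2
    have : (w : M) = 0 := (Submodule.mem_bot R).1 (hd ▸ ⟨w.2, hw⟩)
    rw [Submodule.mem_bot, this, show w = 0 from Subtype.ext this]; simp
  · apply le_antisymm
    · rw [← hs]
      refine sup_le ?_ le_sup_right
      intro x hx
      obtain ⟨w, rfl⟩ := mem_graphOf.1 hx
      exact Submodule.add_mem_sup w.2 (φ w).2
    · rw [← hs]
      refine sup_le (fun w hw => ?_) le_sup_right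
      have := Submodule.add_mem_sup (mem_graphOf.2 ⟨⟨w, hw⟩, rfl⟩ : w + (φ ⟨w, hw⟩ : M) ∈ graphOf φ)
        (A.neg_mem (φ ⟨w, hw⟩).2)
      rwa [add_neg_cancel_right] at this
  · intro φ ψ h
    refine LinearMap.ext fun w => ?_
    have hw : (w : M) + (φ w : M) ∈ graphOf ψ := by
      rw [← show graphOf φ = graphOf ψ from congrArg Subtype.val h]; exact mem_graphOf.2 ⟨w, rfl⟩
    obtain ⟨w', hw'⟩ := mem_graphOf.1 hw
    obtain ⟨rfl, h2⟩ := eq_and_eq hd hw'
    exact h2.symm
  · rintro ⟨U, hU1, hU2⟩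
    have hex : ∀ w : ↥W₀, ∃ a : ↥A, (w : M) + (a : M) ∈ U := by
      intro w
      have hw : (w : M) ∈ U ⊔ A := by rw [hU2, ← hs]; exact Submodule.mem_sup_left w.2
      obtain ⟨u, hu, a, ha, he⟩ := Submodule.mem_sup.1 hw
      exact ⟨⟨-a, A.neg_mem ha⟩, by rw [← he]; simpa using hu⟩
    have huniq : ∀ (w : ↥W₀) (a a' : ↥A), (w : M) + a ∈ U → (w : M) + a' ∈ U → a = a' := by
      intro w a a' h h'
      have h1 : (a : M) - a' ∈ U ⊓ A :=
        ⟨by simpa using U.sub_mem h h', A.sub_mem a.2 a'.2⟩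
      rw [hU1, Submodule.mem_bot] at h1
      exact Subtype.ext (sub_eq_zero.1 h1)
    choose φ hφ using hex
    let ψ : ↥W₀ →ₗ[R] ↥A :=
      { toFun := φ
        map_add' := fun w w' => huniq _ _ _ (hφ _) (by
          have := U.add_mem (hφ w) (hφ w')
          simp only [Submodule.coe_add]
          convert this using 1; abel)
        map_smul' := fun c w => huniq _ _ _ (hφ _) (by
          have := U.smul_mem c (hφ w)
          simpa [smul_add] using this) }
    refine ⟨ψ, Subtype.ext (le_antisymm ?_ ?_)⟩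
    · intro x hx
      obtain ⟨w, rfl⟩ := mem_graphOf.1 hx
      exact hφ w
    · intro x hx
      have hxW : x ∈ W₀ ⊔ A := by rw [hs, ← hU2]; exact Submodule.mem_sup_left hx
      obtain ⟨w, hw, a, ha, he⟩ := Submodule.mem_sup.1 hxW
      have := huniq ⟨w, hw⟩ ⟨a, ha⟩ (φ ⟨w, hw⟩) (by rw [he]; exact hx) (hφ _)
      exact mem_graphOf.2 ⟨⟨w, hw⟩, by rw [← he]; congr 1; exact congrArg Subtype.val this.symm⟩

variable (δ : Submodule R M → ℕ)

/-- Chains with prescribed levels below `W`. -/
def Flags (D : Finset ℕ) (W : Submodule R M) : Type v :=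
  {f : (d : ℕ) → d ∈ D → Submodule R M //
    (∀ d hd, δ (f d hd) = d ∧ f d hd < W) ∧ ∀ d hd e he, d ≤ e → f d hd ≤ f e he}

instance finite_flags (D : Finset ℕ) (W : Submodule R M) : Finite (Flags δ D W) := by
  refine Finite.of_injective (fun f => fun x : D => f.1 x.1 x.2) fun f g h => Subtype.ext ?_
  funext d hd
  exact congrFun h ⟨d, hd⟩

variable (hmono : StrictMono δ) (hbot : δ ⊥ = 0)

include hmono hbot

theorem card_flags_empty (W : Submodule R M) : Nat.card (Flags δ ∅ W) = 1 := by
  haveI : Subsingleton (Flags δ ∅ W) := ⟨fun f g => Subtype.ext (funext fun d => funext fun hd =>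
    absurd hd (Finset.notMem_empty d))⟩
  haveI : Nonempty (Flags δ ∅ W) := ⟨⟨fun d hd => absurd hd (Finset.notMem_empty d),
    fun d hd => absurd hd (Finset.notMem_empty d), fun d hd => absurd hd (Finset.notMem_empty d)⟩⟩
  exact Nat.card_of_subsingleton (Classical.arbitrary _)

theorem card_flags_insert {D : Finset ℕ} {d : ℕ} (hD : ∀ e ∈ D, e < d) (W : Submodule R M) :
    Nat.card (Flags δ (insert d D) W) =
      ∑ U ∈ (below W).filter (fun U => δ U = d), Nat.card (Flags δ D U) := by
  rw [← Finset.sum_coe_sort, ← Nat.card_sigma]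
  have hnd : d ∉ D := fun h => lt_irrefl _ (hD d h)
  refine Nat.card_congr
    { toFun := fun f => ⟨⟨f.1 d (mem_insert_self d D), mem_filter.2
          ⟨mem_below.2 (f.2.1 d _).2, (f.2.1 d _).1⟩⟩,
        ⟨fun e he => f.1 e (mem_insert_of_mem he), fun e he => ⟨(f.2.1 e _).1,
          lt_of_le_of_ne (f.2.2 e _ d _ (hD e he).le) fun h => (hD e he).ne
            ((f.2.1 e _).1.symm.trans ((congrArg δ h).trans (f.2.1 d _).1))⟩,
          fun e he e' he' h => f.2.2 _ _ _ _ h⟩⟩
      invFun := fun x => ⟨fun e he => if h : e ∈ D then x.2.1 e h else x.1.1, ?_, ?_⟩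
      left_inv := fun f => Subtype.ext (funext fun e => funext fun he => ?_)
      right_inv := fun x => ?_ }
  · intro e he
    obtain ⟨hU1, hU2⟩ := mem_filter.1 x.1.2
    dsimp only
    split_ifs with h
    · exact ⟨(x.2.2.1 e h).1, (x.2.2.1 e h).2.trans (mem_below.1 hU1)⟩
    · obtain rfl : e = d := (mem_insert.1 he).resolve_right h
      exact ⟨hU2, mem_below.1 hU1⟩
  · intro e he e' he' hee
    dsimp only
    split_ifs with h h'
    · exact x.2.2.2 _ _ _ _ hee
    · exact (x.2.2.1 e h).2.le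
    · obtain rfl : e = d := (mem_insert.1 he).resolve_right h
      rename_i h2
      exact absurd (hD e' h2) (not_lt.2 hee)
    · exact le_rfl
  · dsimp only
    split_ifs with h
    · rfl
    · obtain rfl : e = d := (mem_insert.1 he).resolve_right h
      rfl
  · obtain ⟨⟨U, hU⟩, f, hf⟩ := x
    refine Sigma.subtype_ext (Subtype.ext (dif_neg hnd)) ?_
    funext e he
    exact dif_pos he

theorem sum_flags_eq_zeta : ∀ W : Submodule R M, W ≠ ⊥ →
    zeta W = ∑ D ∈ (Ioo 0 (δ W)).powerset, (-1 : ℤ) ^ (D.card + 1) * Nat.card (Flags δ D W) := by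
  intro W
  induction W using WellFoundedLT.induction with
  | _ W ih =>
    intro hW
    rw [zeta_eq, if_neg hW]
    have hbelow : (⊥ : Submodule R M) ∈ below W := mem_below.2 (bot_lt_iff_ne_bot.2 hW)
    rw [← add_sum_erase _ _ hbelow, zeta_bot]
    have hmap : ∀ U ∈ (below W).erase ⊥, δ U ∈ Ioo 0 (δ W) := by
      intro U hU
      obtain ⟨hU0, hU⟩ := mem_erase.1 hU
      exact mem_Ioo.2 ⟨hbot ▸ hmono (bot_lt_iff_ne_bot.2 hU0), hmono (mem_below.1 hU)⟩
    have hfil : ∀ d ∈ Ioo 0 (δ W),
        ((below W).erase ⊥).filter (fun U => δ U = d) = (below W).filter (fun U => δ U = d) := by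
      intro d hd
      ext U
      simp only [mem_filter, mem_erase]
      refine ⟨fun h => ⟨h.1.2, h.2⟩, fun h => ⟨⟨?_, h.1⟩, h.2⟩⟩
      rintro rfl
      rw [hbot] at h
      exact (mem_Ioo.1 hd).1.ne h.2
    rw [← sum_fiberwise_of_maps_to (t := Ioo 0 (δ W)) (g := δ) hmap]
    have hstep : ∀ d ∈ Ioo 0 (δ W), ∑ U ∈ ((below W).erase ⊥).filter (fun U => δ U = d), zeta U =
        ∑ D ∈ (Ioo 0 d).powerset, (-1 : ℤ) ^ (D.card + 1) * Nat.card (Flags δ (insert d D) W) := by
      intro d hd
      rw [hfil d hd]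
      calc ∑ U ∈ (below W).filter (fun U => δ U = d), zeta U
          = ∑ U ∈ (below W).filter (fun U => δ U = d), ∑ D ∈ (Ioo 0 d).powerset,
              (-1 : ℤ) ^ (D.card + 1) * Nat.card (Flags δ D U) := by
            refine sum_congr rfl fun U hU => ?_
            obtain ⟨hU1, hU2⟩ := mem_filter.1 hU
            rw [ih U (mem_below.1 hU1) (fun e => by rw [e, hbot] at hU2; exact (mem_Ioo.1 hd).1.ne hU2), hU2]
        _ = _ := by
            rw [sum_comm]
            refine sum_congr rfl fun D hD => ?_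
            rw [card_flags_insert δ hmono hbot (fun e he => (mem_Ioo.1 (mem_powerset.1 hD he)).2),
              Nat.cast_sum, mul_sum]
    rw [sum_congr rfl hstep]
    rw [← sum_filter_add_sum_filter_not (Ioo 0 (δ W)).powerset (fun D => D.Nonempty)]
    have hempty : (Ioo 0 (δ W)).powerset.filter (fun D => ¬ D.Nonempty) = {∅} := by
      ext D; simp [not_nonempty_iff_eq_empty]; rintro rfl; simp
    rw [hempty, sum_singleton, card_flags_empty δ hmono hbot, card_empty, neg_add, add_comm, ← sum_neg_distrib]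
    congr 1
    · rw [sum_congr rfl (fun d _ => (sum_neg_distrib _).symm), sum_sigma']
      refine sum_bij' (fun x _ => insert x.1 x.2)
        (fun D hD => ⟨D.max' (mem_filter.1 hD).2, D.erase (D.max' (mem_filter.1 hD).2)⟩) ?_ ?_ ?_ ?_ ?_
      · rintro ⟨d, D⟩ hx
        simp only [mem_sigma, mem_powerset] at hx
        refine mem_filter.2 ⟨mem_powerset.2 (insert_subset hx.1 fun e he => ?_), insert_nonempty _ _⟩
        have := mem_Ioo.1 (hx.2 he)
        exact mem_Ioo.2 ⟨this.1, this.2.trans (mem_Ioo.1 hx.1).2⟩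
      · intro D hD
        obtain ⟨hD1, hD2⟩ := mem_filter.1 hD
        simp only [mem_sigma, mem_powerset]
        refine ⟨mem_powerset.1 hD1 (D.max'_mem hD2), fun e he => ?_⟩
        obtain ⟨hne, he⟩ := mem_erase.1 he
        exact mem_Ioo.2 ⟨(mem_Ioo.1 (mem_powerset.1 hD1 he)).1, lt_of_le_of_ne (D.le_max' e he) hne⟩
      · rintro ⟨d, D⟩ hx
        simp only [mem_sigma, mem_powerset] at hx
        have hmax : (insert d D).max' (insert_nonempty _ _) = d := by
          refine le_antisymm (max'_le _ _ _ fun e he => ?_) (le_max' _ _ (mem_insert_self _ _))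
          rcases mem_insert.1 he with rfl | he
          · exact le_rfl
          · exact (mem_Ioo.1 (hx.2 he)).2.le
        simp only [hmax]
        rw [erase_insert]
        exact fun h => lt_irrefl _ (mem_Ioo.1 (hx.2 h)).2
      · intro D hD
        exact insert_erase (D.max'_mem (mem_filter.1 hD).2)
      · rintro ⟨d, D⟩ hx
        simp only [mem_sigma, mem_powerset] at hx
        rw [card_insert_of_notMem (fun h => lt_irrefl _ (mem_Ioo.1 (hx.2 h)).2), pow_succ _ (D.card + 1)]
        ring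

end Cfsg.Agent.GLFlag.Chains
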