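import Mathlib.GroupTheory.GroupAction.Quotient
import Mathlib.GroupTheory.DoubleCoset
import Mathlib.Data.Complex.Basic
import Cfsg.Prelude.Def_ParabolicCharacters

/-! Inner products of permutation characters count double cosets. -/

set_option autoImplicit false

namespace Cfsg.Agent.GLFlag

variable {G : Type*} [Group G] (H K : Subgroup G)

/-- The double coset attached to a pair of cosets. -/
def pairDouble : (G ⧸ H) × (G ⧸ K) → DoubleCoset.Quotient (H : Set G) (K : Set G) := fun p =>
  Quotient.liftOn₂' p.1 p.2 (fun x y => DoubleCoset.mk H K (x⁻¹ * y)) (by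
    intro x y x' y' hx hy
    rw [QuotientGroup.leftRel_apply] at hx hy
    rw [DoubleCoset.eq]
    exact ⟨(x⁻¹ * x')⁻¹, inv_mem hx, y⁻¹ * y', hy, by group⟩)

theorem pairDouble_mk (x y : G) :
    pairDouble H K ((x : G ⧸ H), (y : G ⧸ K)) = DoubleCoset.mk H K (x⁻¹ * y) := rfl

/-- Orbits on pairs of cosets are double cosets. -/
noncomputable def orbitsPairEquiv :
    MulAction.orbitRel.Quotient G ((G ⧸ H) × (G ⧸ K)) ≃
      DoubleCoset.Quotient (H : Set G) (K : Set G) := by
  refine Equiv.ofBijective (Quotient.lift (pairDouble H K) ?_) ⟨?_, ?_⟩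
  · rintro ⟨a, b⟩ ⟨c, d⟩ ⟨g, hg⟩
    induction c using QuotientGroup.induction_on with | H x =>
    induction d using QuotientGroup.induction_on with | H y =>
    change (g • ((x : G ⧸ H), (y : G ⧸ K))) = (a, b) at hg
    rw [← hg]
    change pairDouble H K (((g * x : G) : G ⧸ H), ((g * y : G) : G ⧸ K)) = _
    rw [pairDouble_mk, pairDouble_mk]
    congr 1
    group
  · intro p q
    induction p using Quotient.inductionOn with | h p =>
    induction q using Quotient.inductionOn with | h q =>
    obtain ⟨a, b⟩ := p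
    obtain ⟨c, d⟩ := q
    induction a using QuotientGroup.induction_on with | H x₁ =>
    induction b using QuotientGroup.induction_on with | H y₁ =>
    induction c using QuotientGroup.induction_on with | H x₂ =>
    induction d using QuotientGroup.induction_on with | H y₂ =>
    intro h
    simp only [Quotient.lift_mk, pairDouble_mk, DoubleCoset.eq] at h
    obtain ⟨h', hh', k', hk', e⟩ := h
    refine (Quotient.sound (s := MulAction.orbitRel G _) ⟨x₂ * h' * x₁⁻¹, ?_⟩).symm
    change (((x₂ * h' * x₁⁻¹ * x₁ : G) : G ⧸ H), ((x₂ * h' * x₁⁻¹ * y₁ : G) : G ⧸ K)) =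
      ((x₂ : G ⧸ H), (y₂ : G ⧸ K))
    refine Prod.ext (QuotientGroup.eq.2 ?_) (QuotientGroup.eq.2 ?_)
    · simpa using hh'
    · have e2 : (x₂ * h' * x₁⁻¹ * y₁)⁻¹ * y₂ = k' := by
        have : y₂ = x₂ * (h' * (x₁⁻¹ * y₁) * k') := by rw [← e]; group
        rw [this]; group
      rwa [e2]
  · intro q
    obtain ⟨g, rfl⟩ := Quotient.exists_rep q
    exact ⟨⟦(((1 : G) : G ⧸ H), (g : G ⧸ K))⟧, by
      simp only [Quotient.lift_mk, pairDouble_mk]; simp [DoubleCoset.mk]; rfl⟩

theorem sum_fixedPointCharacter_mul [Fintype G] :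
    ∑ g : G, Cfsg.fixedPointCharacter H g * Cfsg.fixedPointCharacter K g =
      (Nat.card G : ℂ) * Nat.card (DoubleCoset.Quotient (H : Set G) (K : Set G)) := by
  classical
  have key := MulAction.sum_card_fixedBy_eq_card_orbits_mul_card_group G ((G ⧸ H) × (G ⧸ K))
  have hfix : ∀ g : G, Fintype.card (MulAction.fixedBy ((G ⧸ H) × (G ⧸ K)) g) =
      Nat.card (MulAction.fixedBy (G ⧸ H) g) * Nat.card (MulAction.fixedBy (G ⧸ K) g) := by
    intro g
    rw [← Nat.card_eq_fintype_card, ← Nat.card_prod]
    apply Nat.card_congr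
    refine (Equiv.subtypeEquivRight ?_).trans (Equiv.subtypeProdEquivProd)
    intro p
    simp [MulAction.mem_fixedBy, Prod.ext_iff]
  rw [Finset.sum_congr rfl (fun g _ => hfix g), Fintype.card_eq_nat_card,
    Fintype.card_eq_nat_card, Nat.card_congr (orbitsPairEquiv H K), mul_comm] at key
  simp only [Cfsg.fixedPointCharacter]
  exact_mod_cast key

end Cfsg.Agent.GLFlag
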