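import Cfsg.Agent.GLFlag.Labels
import Cfsg.Agent.GLFlag.Bruhat
import Cfsg.Agent.GLFlag.Orbits

/-! Double cosets of parabolic and of Young subgroups are counted by contingency matrices. -/

set_option autoImplicit false

namespace Cfsg.Agent.GLFlag

open Matrix
open scoped MatrixGroups

variable {n : ℕ} {F : Type*} [Field F] {α β : Fin n → ℕ} (hα : ∑ i, α i = n) (hβ : ∑ i, β i = n)

theorem mem_parabolic {μ : Fin n → ℕ} (hμ : ∑ i, μ i = n) {g : GL (Fin n) F} :
    g ∈ Cfsg.parabolicGL n F μ ↔
      ∀ i j : Fin n, lab μ hμ j < lab μ hμ i → (g : Matrix (Fin n) (Fin n) F) i j = 0 :=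
  ⟨fun h _ _ hij => h hij, fun h _ _ hij => h _ _ hij⟩

theorem upper_le_parabolic (μ : Fin n → ℕ) :
    Cfsg.upperTriangularGL n F ≤ Cfsg.parabolicGL n F μ := by
  intro g hg i j hij
  apply hg
  by_contra h
  exact absurd hij (not_lt.2 (compLabel_mono μ (not_lt.1 h)))

theorem mem_young {μ : Fin n → ℕ} (hμ : ∑ i, μ i = n) {σ : Equiv.Perm (Fin n)} :
    σ ∈ Cfsg.youngSubgroup μ ↔ ∀ i, lab μ hμ (σ i) = lab μ hμ i :=
  ⟨fun h i => Fin.ext (h i), fun h i => congrArg Fin.val (h i)⟩

theorem permGL_mem_parabolic {μ : Fin n → ℕ} {σ : Equiv.Perm (Fin n)}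
    (h : σ ∈ Cfsg.youngSubgroup μ) : permGL F σ ∈ Cfsg.parabolicGL n F μ := by
  intro i j hij
  rw [coe_permGL, permMat_apply, if_neg]
  intro e
  rw [← e, h j] at hij
  exact lt_irrefl _ hij

/-- The matrix of block counts of a permutation. -/
def blockCounts (w : Equiv.Perm (Fin n)) : Fin n → Fin n → ℕ :=
  joint (fun j => lab α hα (w j)) (lab β hβ)

theorem blockCounts_mem (w : Equiv.Perm (Fin n)) :
    (∀ i, ∑ j, blockCounts hα hβ w i j = α i) ∧ (∀ j, ∑ i, blockCounts hα hβ w i j = β j) := by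
  refine ⟨fun i => ?_, fun j => ?_⟩
  · rw [blockCounts, sum_joint_right, ← card_lab_fibre hα i]
    refine Finset.card_equiv w fun k => ?_
    simp
  · rw [blockCounts, sum_joint_left, card_lab_fibre hβ j]

/-- Block counts as a contingency matrix. -/
def toContingency (w : Equiv.Perm (Fin n)) : Contingency α β :=
  ⟨blockCounts hα hβ w, blockCounts_mem hα hβ w⟩

theorem toContingency_surjective : Function.Surjective (toContingency hα hβ) := by
  rintro ⟨m, hm1, hm2⟩
  obtain ⟨w, hw⟩ := exists_perm_joint (lab α hα) (lab β hβ) m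
    (fun x => by rw [hm1, card_lab_fibre]) (fun y => by rw [hm2, card_lab_fibre])
  exact ⟨w, Subtype.ext hw⟩

theorem young_mk_eq_iff (w w' : Equiv.Perm (Fin n)) :
    DoubleCoset.mk (Cfsg.youngSubgroup α) (Cfsg.youngSubgroup β) w =
        DoubleCoset.mk (Cfsg.youngSubgroup α) (Cfsg.youngSubgroup β) w' ↔
      blockCounts hα hβ w = blockCounts hα hβ w' := by
  rw [DoubleCoset.eq]
  constructor
  · rintro ⟨s, hs, t, ht, rfl⟩
    funext x y
    unfold blockCounts joint
    symm
    refine Finset.card_equiv t fun j => ?_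
    have e1 := (mem_young hα).1 hs (w (t j))
    have e2 := (mem_young hβ).1 ht j
    rw [Finset.mem_filter, Finset.mem_filter]
    simp [Equiv.Perm.mul_apply, e1, e2]
  · intro h
    obtain ⟨t, ht⟩ := exists_perm_of_fibre_card (fun j => (lab α hα (w' j), lab β hβ j))
      (fun j => (lab α hα (w j), lab β hβ j)) (fun k => by
        have := congrFun (congrFun h k.1) k.2
        simp only [blockCounts, joint] at this
        convert this.symm using 2 <;> ext j <;> simp [Prod.ext_iff])
    refine ⟨w' * t⁻¹ * w⁻¹, (mem_young hα).2 fun i => ?_, t, (mem_young hβ).2 fun j => (Prod.ext_iff.1 (ht j)).2, by group⟩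
    have := (Prod.ext_iff.1 (ht (t⁻¹ (w⁻¹ i)))).1
    simp only [Equiv.Perm.mul_apply]
    simpa using this.symm

/-- The diagonal idempotent on the positions satisfying `p`. -/
def proj (F : Type*) [Field F] (p : Fin n → Prop) [DecidablePred p] : Matrix (Fin n) (Fin n) F :=
  Matrix.diagonal fun i => if p i then 1 else 0

/-- The rank of the corner cut out by two thresholds. -/
noncomputable def cornerRank (g : Matrix (Fin n) (Fin n) F) (x y : ℕ) : ℕ :=
  (proj F (fun i => x ≤ (lab α hα i).val) * g * proj F (fun i => (lab β hβ i).val < y)).rank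

theorem cornerRank_mul_le {p q : GL (Fin n) F} (hp : p ∈ Cfsg.parabolicGL n F α)
    (hq : q ∈ Cfsg.parabolicGL n F β) (g : Matrix (Fin n) (Fin n) F) (x y : ℕ) :
    cornerRank hα hβ ((p : Matrix (Fin n) (Fin n) F)  * g * (q : Matrix (Fin n) (Fin n) F)) x y ≤ cornerRank hα hβ g x y := by
  set E := proj F (fun i => x ≤ (lab α hα i).val) with hE
  set E' := proj F (fun i => (lab β hβ i).val < y) with hE'
  have e1 : E * (p : Matrix (Fin n) (Fin n) F) = E * p * E := by
    ext i j
    simp only [hE, proj, Matrix.diagonal_mul, Matrix.mul_diagonal]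
    split_ifs with h1 h2
    · simp
    · have := (mem_parabolic hα).1 hp i j (by simp only [Fin.lt_def]; omega)
      simp [this]
    · simp
    · simp
  have e2 : (q : Matrix (Fin n) (Fin n) F) * E' = E' * q * E' := by
    ext i j
    simp only [hE', proj, Matrix.diagonal_mul, Matrix.mul_diagonal]
    split_ifs with h1 h2
    · simp
    · have := (mem_parabolic hβ).1 hq i j (by simp only [Fin.lt_def]; omega)
      simp [this]
    · simp
    · simp
  unfold cornerRank
  rw [← hE, ← hE']
  have : E * ((p : Matrix (Fin n) (Fin n) F) * g * (q : Matrix (Fin n) (Fin n) F)) * E' = (E * p) * (E * g * E') * (q * E') := by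
    calc E * ((p : Matrix (Fin n) (Fin n) F) * g * (q : Matrix (Fin n) (Fin n) F)) * E'
        = (E * p) * g * (q * E') := by simp only [Matrix.mul_assoc]
      _ = (E * p * E) * g * (E' * q * E') := by rw [← e1, ← e2]
      _ = _ := by simp only [Matrix.mul_assoc]
  rw [this]
  exact le_trans (Matrix.rank_mul_le_left _ _) (Matrix.rank_mul_le_right _ _)

theorem cornerRank_mul {p q : GL (Fin n) F} (hp : p ∈ Cfsg.parabolicGL n F α)
    (hq : q ∈ Cfsg.parabolicGL n F β) (g : Matrix (Fin n) (Fin n) F) (x y : ℕ) :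
    cornerRank hα hβ ((p : Matrix (Fin n) (Fin n) F)  * g * (q : Matrix (Fin n) (Fin n) F)) x y = cornerRank hα hβ g x y := by
  refine le_antisymm (cornerRank_mul_le hα hβ hp hq g x y) ?_
  have := cornerRank_mul_le hα hβ (inv_mem hp) (inv_mem hq)
    ((p : Matrix (Fin n) (Fin n) F)  * g * (q : Matrix (Fin n) (Fin n) F)) x y
  have h1 : ((p⁻¹ : GL (Fin n) F) : Matrix (Fin n) (Fin n) F) * (p : Matrix (Fin n) (Fin n) F) = 1 :=
    p.inv_mul
  have h2 : (q : Matrix (Fin n) (Fin n) F) * ((q⁻¹ : GL (Fin n) F) : Matrix (Fin n) (Fin n) F) = 1 :=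
    q.mul_inv
  have e : ((p⁻¹ : GL (Fin n) F) : Matrix (Fin n) (Fin n) F) *
      ((p : Matrix (Fin n) (Fin n) F) * g * (q : Matrix (Fin n) (Fin n) F)) *
      ((q⁻¹ : GL (Fin n) F) : Matrix (Fin n) (Fin n) F) = g := by
    calc _ = ((p⁻¹ : GL (Fin n) F) : Matrix (Fin n) (Fin n) F) * (p : Matrix (Fin n) (Fin n) F) * g *
          ((q : Matrix (Fin n) (Fin n) F) * ((q⁻¹ : GL (Fin n) F) : Matrix (Fin n) (Fin n) F)) := by
          simp only [Matrix.mul_assoc]
      _ = g := by rw [h1, h2, Matrix.one_mul, Matrix.mul_one]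
  rw [e] at this
  exact this

theorem cornerRank_perm (w : Equiv.Perm (Fin n)) (x y : ℕ) :
    cornerRank hα hβ (permMat F w) x y =
      (Finset.univ.filter fun j => x ≤ (lab α hα (w j)).val ∧ (lab β hβ j).val < y).card := by
  classical
  have : proj F (fun i => x ≤ (lab α hα i).val) * permMat F w * proj F (fun i => (lab β hβ i).val < y) =
      permMat F w * proj F (fun j => x ≤ (lab α hα (w j)).val ∧ (lab β hβ j).val < y) := by
    ext i j
    simp only [proj, Matrix.diagonal_mul, Matrix.mul_diagonal, permMat_apply]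
    by_cases h : w j = i
    · subst h; simp [ite_and]; split_ifs <;> rfl
    · simp [h]
  unfold cornerRank
  rw [this]
  have hu : IsUnit (permMat F w) := ⟨permGL F w, rfl⟩
  rw [Matrix.rank_mul_eq_right_of_isUnit_det _ _ ((Matrix.isUnit_iff_isUnit_det _).1 hu), proj,
    Matrix.rank_diagonal, Fintype.card_subtype]
  congr 1
  ext j
  simp

theorem blockCounts_eq_of_corner {w w' : Equiv.Perm (Fin n)}
    (h : ∀ x y : ℕ,
      (Finset.univ.filter fun j => x ≤ (lab α hα (w j)).val ∧ (lab β hβ j).val < y).card =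
      (Finset.univ.filter fun j => x ≤ (lab α hα (w' j)).val ∧ (lab β hβ j).val < y).card) :
    blockCounts hα hβ w = blockCounts hα hβ w' := by
  funext a b
  have key : ∀ u : Equiv.Perm (Fin n),
      blockCounts hα hβ u a b +
        (Finset.univ.filter fun j => a.val + 1 ≤ (lab α hα (u j)).val ∧ (lab β hβ j).val < b.val + 1).card +
        (Finset.univ.filter fun j => a.val ≤ (lab α hα (u j)).val ∧ (lab β hβ j).val < b.val).card =
      (Finset.univ.filter fun j => a.val ≤ (lab α hα (u j)).val ∧ (lab β hβ j).val < b.val + 1).card +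
        (Finset.univ.filter fun j => a.val + 1 ≤ (lab α hα (u j)).val ∧ (lab β hβ j).val < b.val).card := by
    intro u
    simp only [blockCounts, joint, Finset.card_filter, ← Finset.sum_add_distrib, Fin.ext_iff]
    refine Finset.sum_congr rfl fun j _ => ?_
    split_ifs <;> omega
  have h1 := key w
  have h2 := key w'
  rw [h (a.val + 1) (b.val + 1), h a.val b.val, h a.val (b.val + 1), h (a.val + 1) b.val] at h1
  omega

theorem gl_mk_eq_iff (w w' : Equiv.Perm (Fin n)) :
    DoubleCoset.mk (Cfsg.parabolicGL n F α) (Cfsg.parabolicGL n F β) (permGL F w) =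
        DoubleCoset.mk (Cfsg.parabolicGL n F α) (Cfsg.parabolicGL n F β) (permGL F w') ↔
      blockCounts hα hβ w = blockCounts hα hβ w' := by
  constructor
  · intro h
    rw [DoubleCoset.eq] at h
    obtain ⟨p, hp, q, hq, e⟩ := h
    refine blockCounts_eq_of_corner hα hβ fun x y => ?_
    rw [← cornerRank_perm hα hβ (F := F), ← cornerRank_perm hα hβ (F := F)]
    have : permMat F w' = (p : Matrix (Fin n) (Fin n) F) * permMat F w * (q : Matrix (Fin n) (Fin n) F) := by
      rw [← coe_permGL, e]; rfl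
    rw [this, cornerRank_mul hα hβ hp hq]
  · intro h
    obtain ⟨s, hs, t, ht, e⟩ := (DoubleCoset.eq _ _ _ _).1 ((young_mk_eq_iff hα hβ w w').2 h)
    rw [DoubleCoset.eq]
    exact ⟨_, permGL_mem_parabolic hs, _, permGL_mem_parabolic ht, by rw [e, map_mul, map_mul]⟩

theorem gl_mk_perm_surjective :
    Function.Surjective fun w => DoubleCoset.mk (Cfsg.parabolicGL n F α) (Cfsg.parabolicGL n F β)
      (permGL F w) := by
  intro q
  obtain ⟨g, rfl⟩ := Quotient.exists_rep q
  obtain ⟨σ, b₁, hb₁, b₂, hb₂, rfl⟩ := exists_bruhat g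
  exact ⟨σ, (DoubleCoset.eq _ _ _ _).2 ⟨b₁, upper_le_parabolic α hb₁, b₂, upper_le_parabolic β hb₂, rfl⟩⟩

theorem exists_equiv_of_common_kernel {A B C : Type*} {f : A → B} {g : A → C}
    (hf : Function.Surjective f) (hg : Function.Surjective g)
    (h : ∀ a a', f a = f a' ↔ g a = g a') : Nonempty (B ≃ C) :=
  ⟨Equiv.ofBijective (fun b => g (Function.surjInv hf b))
    ⟨fun b b' e => by
      have := (h _ _).2 e
      rwa [Function.surjInv_eq hf, Function.surjInv_eq hf] at this,
    fun c => by
      obtain ⟨a, rfl⟩ := hg c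
      exact ⟨f a, (h _ _).1 (Function.surjInv_eq hf (f a))⟩⟩⟩

include hα hβ in
theorem card_gl_doubleCoset :
    Nat.card (DoubleCoset.Quotient (Cfsg.parabolicGL n F α : Set (GL (Fin n) F))
      (Cfsg.parabolicGL n F β : Set (GL (Fin n) F))) = Nat.card (Contingency α β) := by
  obtain ⟨e⟩ := exists_equiv_of_common_kernel (gl_mk_perm_surjective (F := F))
    (toContingency_surjective hα hβ) fun w w' => by
      rw [gl_mk_eq_iff hα hβ]; exact ⟨fun h => Subtype.ext h, fun h => congrArg Subtype.val h⟩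
  exact Nat.card_congr e

include hα hβ in
theorem card_young_doubleCoset :
    Nat.card (DoubleCoset.Quotient (Cfsg.youngSubgroup α : Set (Equiv.Perm (Fin n)))
      (Cfsg.youngSubgroup β : Set (Equiv.Perm (Fin n)))) = Nat.card (Contingency α β) := by
  obtain ⟨e⟩ := exists_equiv_of_common_kernel
    (f := fun w => DoubleCoset.mk (Cfsg.youngSubgroup α) (Cfsg.youngSubgroup β) w)
    (fun q => by obtain ⟨g, rfl⟩ := Quotient.exists_rep q; exact ⟨g, rfl⟩)
    (toContingency_surjective hα hβ) fun w w' => by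
      rw [young_mk_eq_iff hα hβ]; exact ⟨fun h => Subtype.ext h, fun h => congrArg Subtype.val h⟩
  exact Nat.card_congr e

include hα hβ in
theorem sum_gl_flag_mul [Fintype F] [DecidableEq F] :
    ∑ g : GL (Fin n) F, Cfsg.fixedPointCharacter (Cfsg.parabolicGL n F α) g *
        Cfsg.fixedPointCharacter (Cfsg.parabolicGL n F β) g =
      (Nat.card (GL (Fin n) F) : ℂ) * Nat.card (Contingency α β) := by
  rw [sum_fixedPointCharacter_mul, card_gl_doubleCoset hα hβ]

end Cfsg.Agent.GLFlag
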