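import Cfsg.Agent.GLFlag.Labels

/-! The Jacobi–Trudi identity in the form of a coefficient identity. -/

set_option autoImplicit false

namespace Cfsg.Agent.GLFlag

open Matrix MvPolynomial

variable {n : ℕ}

/-- The ring in which the identity lives. -/
abbrev SymRing (n : ℕ) : Type := MvPolynomial (Fin n) ℤ

/-- The geometric series in the variable `p`. -/
noncomputable def geomSer (p : Fin n) : PowerSeries (SymRing n) :=
  PowerSeries.mk fun k => (X p : SymRing n) ^ k

theorem geomSer_mul (p : Fin n) :
    geomSer p * (1 - PowerSeries.C (X p : SymRing n) * PowerSeries.X) = 1 := by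
  ext1 k
  rw [mul_sub, mul_one, map_sub, ← mul_assoc]
  cases k with
  | zero => simp [geomSer]
  | succ k => simp [geomSer, PowerSeries.coeff_succ_mul_X, pow_succ]

/-- The complete homogeneous symmetric polynomial, as a coefficient. -/
noncomputable def hCoef (n k : ℕ) : SymRing n :=
  PowerSeries.coeff k (∏ p : Fin n, geomSer p)

/-- The monomial with given exponents. -/
noncomputable def mon (e : Fin n → ℕ) : SymRing n :=
  monomial (Finsupp.equivFunOnFinite.symm e) 1

theorem prod_pow_eq_mon (e : Fin n → ℕ) : ∏ p, (X p : SymRing n) ^ e p = mon e := by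
  rw [mon, monomial_eq, map_one, one_mul, Finsupp.prod_fintype _ _ (fun i => pow_zero _)]
  simp

theorem hCoef_eq_sum (k : ℕ) :
    hCoef n k = ∑ a ∈ Finset.finsuppAntidiag (Finset.univ : Finset (Fin n)) k, monomial a 1 := by
  classical
  rw [hCoef, PowerSeries.coeff_prod]
  refine Finset.sum_congr rfl fun a _ => ?_
  simp only [geomSer, PowerSeries.coeff_mk]
  rw [monomial_eq, map_one, one_mul, Finsupp.prod_fintype _ _ (fun i => pow_zero _)]

/-- The polynomial `∏_{p ≠ l} (1 - x_p t)`. -/
noncomputable def cofPoly (l : Fin n) : Polynomial (SymRing n) :=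
  ∏ p ∈ Finset.univ.erase l, (1 - Polynomial.C (X p) * Polynomial.X)

theorem natDegree_cofPoly (l : Fin n) : (cofPoly l).natDegree < n := by
  refine lt_of_le_of_lt (Polynomial.natDegree_prod_le _ _) (lt_of_le_of_lt
    (Finset.sum_le_card_nsmul _ _ 1 fun p _ => ?_) ?_)
  · exact le_trans (Polynomial.natDegree_sub_le _ _) (by simpa using Polynomial.natDegree_C_mul_X_le _)
  · have := l.isLt
    simp; omega

theorem prod_geomSer_mul_cof (l : Fin n) :
    (∏ p : Fin n, geomSer p) * (cofPoly l : PowerSeries (SymRing n)) = geomSer l := by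
  have : (cofPoly l : PowerSeries (SymRing n)) =
      ∏ p ∈ Finset.univ.erase l, (1 - PowerSeries.C (X p : SymRing n) * PowerSeries.X) := by
    rw [cofPoly, ← Polynomial.coeToPowerSeries.ringHom_apply, map_prod]
    refine Finset.prod_congr rfl fun p _ => ?_
    simp
  rw [this, ← Finset.mul_prod_erase Finset.univ geomSer (Finset.mem_univ l), mul_assoc,
    ← Finset.prod_mul_distrib, Finset.prod_eq_one (fun p _ => geomSer_mul p), mul_one]

/-- The matrix `(x_l ^ (λ i))`. -/
noncomputable def powMat (lam : Fin n → ℕ) : Matrix (Fin n) (Fin n) (SymRing n) :=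
  Matrix.of fun i l => (X l : SymRing n) ^ lam i

/-- The Jacobi–Trudi matrix `(h_{λ i - k})`. -/
noncomputable def jacobi (lam : Fin n → ℕ) : Matrix (Fin n) (Fin n) (SymRing n) :=
  Matrix.of fun i k => if k.val ≤ lam i then hCoef n (lam i - k.val) else 0

/-- The matrix of signed elementary symmetric polynomials. -/
noncomputable def elemMat (n : ℕ) : Matrix (Fin n) (Fin n) (SymRing n) :=
  Matrix.of fun k l => (cofPoly l).coeff k.val

theorem jacobi_mul_elemMat (lam : Fin n → ℕ) : jacobi lam * elemMat n = powMat lam := by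
  classical
  refine Matrix.ext fun i l => ?_
  have h := congrArg (PowerSeries.coeff (lam i)) (prod_geomSer_mul_cof l)
  rw [mul_comm, PowerSeries.coeff_mul, Finset.Nat.sum_antidiagonal_eq_sum_range_succ_mk] at h
  have hG : PowerSeries.coeff (lam i) (geomSer l) = (X l : SymRing n) ^ lam i := by simp [geomSer]
  simp only [Polynomial.coeff_coe, hG] at h
  change ∑ k : Fin n, (if k.val ≤ lam i then hCoef n (lam i - k.val) else 0) * (cofPoly l).coeff k.val =
    (X l : SymRing n) ^ lam i
  rw [← h, Fin.sum_univ_eq_sum_range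
    (fun k => (if k ≤ lam i then hCoef n (lam i - k) else 0) * (cofPoly l).coeff k)]
  have hd := natDegree_cofPoly l
  rw [← Finset.sum_filter_add_sum_filter_not (Finset.range n) (fun k => k ≤ lam i),
    Finset.sum_eq_zero (s := (Finset.range n).filter fun k => ¬ k ≤ lam i) (fun k hk => by
      rw [if_neg (Finset.mem_filter.1 hk).2, zero_mul]), add_zero]
  rw [Finset.sum_congr rfl (fun k hk => show
    (if k ≤ lam i then hCoef n (lam i - k) else 0) * (cofPoly l).coeff k =
      (cofPoly l).coeff k * hCoef n (lam i - k) by rw [if_pos (Finset.mem_filter.1 hk).2, mul_comm])]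
  refine Finset.sum_subset (fun k hk => ?_) (fun k hk hk' => ?_)
  · simp at hk ⊢; omega
  · simp at hk hk'
    rw [Polynomial.coeff_eq_zero_of_natDegree_lt (by
      by_contra hc
      have := hk' (by omega)
      omega), zero_mul]

/-- The staircase exponents. -/
def stair (n : ℕ) : Fin n → ℕ := fun i => i.val

theorem det_jacobi_stair : (jacobi (stair n)).det = 1 := by
  rw [Matrix.det_of_lowerTriangular _ (fun i j (hij : i < j) => by
    simp only [jacobi, stair, Matrix.of_apply]
    exact if_neg (not_le.2 (show (i : ℕ) < j from hij)))]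
  refine Finset.prod_eq_one fun i _ => ?_
  simp [jacobi, stair, hCoef_eq_sum, Finset.finsuppAntidiag_zero]

/-- The Jacobi–Trudi identity. -/
theorem det_powMat (lam : Fin n → ℕ) :
    (powMat lam).det = (jacobi lam).det * (powMat (stair n)).det := by
  have h0 := congrArg Matrix.det (jacobi_mul_elemMat (stair n))
  rw [Matrix.det_mul, det_jacobi_stair, one_mul] at h0
  rw [← jacobi_mul_elemMat lam, Matrix.det_mul, h0]

theorem det_powMat_expand (lam : Fin n → ℕ) :
    (powMat lam).det = ∑ σ : Equiv.Perm (Fin n),
      ((Equiv.Perm.sign σ : ℤ) : SymRing n) * mon (fun p => lam (σ p)) := by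
  rw [Matrix.det_apply']
  refine Finset.sum_congr rfl fun σ _ => ?_
  rw [← prod_pow_eq_mon]
  rfl

theorem coeff_mon_mul (e α : Fin n → ℕ) (P : SymRing n) :
    coeff (Finsupp.equivFunOnFinite.symm α) (mon e * P) =
      if ∀ p, e p ≤ α p then coeff (Finsupp.equivFunOnFinite.symm fun p => α p - e p) P else 0 := by
  classical
  rw [mon, coeff_monomial_mul', one_mul]
  refine if_congr ?_ ?_ rfl
  · simp [Finsupp.le_def]
  · congr 1
    ext p
    simp

theorem coeff_mon_self (e α : Fin n → ℕ) :
    coeff (Finsupp.equivFunOnFinite.symm α) (mon e) = if e = α then 1 else 0 := by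
  classical
  rw [mon, coeff_monomial]
  exact if_congr (Finsupp.equivFunOnFinite.symm.injective.eq_iff) rfl rfl

/-- A product of complete symmetric polynomials enumerates contingency matrices. -/
theorem coeff_prod_hCoef (α β : Fin n → ℕ) :
    coeff (Finsupp.equivFunOnFinite.symm α) (∏ j, hCoef n (β j)) =
      (Nat.card (Contingency α β) : ℤ) := by
  classical
  simp only [hCoef_eq_sum]
  rw [Finset.prod_univ_sum, coeff_sum]
  simp only [← monomial_sum_one, coeff_monomial]
  rw [Finset.sum_boole, Nat.cast_inj, ← Nat.card_eq_finsetCard]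
  symm
  refine Nat.card_congr
    { toFun := fun m => ⟨fun j => Finsupp.equivFunOnFinite.symm fun i => m.1 i j, ?_⟩
      invFun := fun f => ⟨fun i j => f.1 j i, ?_, ?_⟩
      left_inv := fun m => Subtype.ext rfl
      right_inv := fun f => Subtype.ext (funext fun j => Finsupp.ext fun i => rfl) }
  · simp only [Finset.mem_filter, Fintype.mem_piFinset, Finset.mem_finsuppAntidiag]
    refine ⟨fun j => ⟨?_, Finset.subset_univ _⟩, ?_⟩
    · simp [m.2.2 j]
    · ext i
      simp [Finsupp.finsetSum_apply, m.2.1 i]
  · intro i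
    have := (Finset.mem_filter.1 f.2).2
    have := DFunLike.congr_fun this i
    simpa [Finsupp.finsetSum_apply] using this
  · intro j
    have := (Fintype.mem_piFinset.1 (Finset.mem_filter.1 f.2).1) j
    rw [Finset.mem_finsuppAntidiag] at this
    exact this.1

/-- The valid terms of the alternating sum. -/
theorem coeff_det_stair_mul (lam : Fin n → ℕ) (P : SymRing n) :
    coeff (Finsupp.equivFunOnFinite.symm lam) ((powMat (stair n)).det * P) =
      ∑ κ : Equiv.Perm (Fin n), if ∀ i, (κ i).val ≤ lam i then
        (Equiv.Perm.sign κ : ℤ) *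
          coeff (Finsupp.equivFunOnFinite.symm fun i => lam i - (κ i).val) P else 0 := by
  rw [det_powMat_expand, Finset.sum_mul, coeff_sum]
  refine Finset.sum_congr rfl fun κ _ => ?_
  rw [mul_assoc, ← map_intCast (MvPolynomial.C : ℤ →+* SymRing n), coeff_C_mul, coeff_mon_mul]
  by_cases hκ : ∀ i, (κ i).val ≤ lam i
  · rw [if_pos hκ, if_pos (show ∀ p, stair n (κ p) ≤ lam p from hκ)]; simp [stair]
  · rw [if_neg hκ, if_neg (show ¬ ∀ p, stair n (κ p) ≤ lam p from hκ)]; simp

theorem det_jacobi_expand (lam : Fin n → ℕ) :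
    (jacobi lam).det = ∑ κ : Equiv.Perm (Fin n), if ∀ i, (κ i).val ≤ lam i then
      ((Equiv.Perm.sign κ : ℤ) : SymRing n) * ∏ i, hCoef n (lam i - (κ i).val) else 0 := by
  rw [← Matrix.det_transpose, Matrix.det_apply']
  refine Finset.sum_congr rfl fun κ _ => ?_
  split_ifs with h
  · congr 1
    refine Finset.prod_congr rfl fun i _ => ?_
    simp [jacobi, h i]
  · push Not at h
    obtain ⟨i, hi⟩ := h
    rw [Finset.prod_eq_zero (Finset.mem_univ i), mul_zero]
    simp [jacobi, hi]

/-- Strictly increasing exponents are permuted into strictly increasing ones only trivially. -/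
theorem perm_eq_one_of_comp {lam lam' : Fin n → ℕ} (h : StrictMono lam) (h' : StrictMono lam')
    {σ : Equiv.Perm (Fin n)} (e : (fun p => lam' (σ p)) = lam) : σ = 1 := by
  have hm : StrictMono σ := fun a b hab => h'.lt_iff_lt.1 (by
    have := h hab
    rw [← e] at this
    exact this)
  exact Equiv.ext fun p => congrFun ((hm.range_inj strictMono_id).1 (by simp)) p

/-- The alternating sums are orthonormal. -/
theorem alternating_sum_contingency {lam lam' : Fin n → ℕ} (h : StrictMono lam)
    (h' : StrictMono lam') :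
    (∑ κ : Equiv.Perm (Fin n), if ∀ i, (κ i).val ≤ lam i then
      (Equiv.Perm.sign κ : ℤ) * ∑ κ' : Equiv.Perm (Fin n),
        (if ∀ i, (κ' i).val ≤ lam' i then (Equiv.Perm.sign κ' : ℤ) *
          (Nat.card (Contingency (fun i => lam i - (κ i).val) (fun i => lam' i - (κ' i).val)) : ℤ)
        else 0) else 0) = if lam = lam' then 1 else 0 := by
  classical
  have hR : coeff (Finsupp.equivFunOnFinite.symm lam) (powMat lam').det =
      if lam = lam' then 1 else 0 := by
    rw [det_powMat_expand, coeff_sum, Finset.sum_eq_single (1 : Equiv.Perm (Fin n))]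
    · simp [coeff_mon_self, eq_comm]
    · intro σ _ hσ
      rw [← map_intCast (MvPolynomial.C : ℤ →+* SymRing n), coeff_C_mul, coeff_mon_self, if_neg
        (fun e => hσ (perm_eq_one_of_comp h h' e)), mul_zero]
    · simp
  rw [← hR, det_powMat lam', mul_comm, coeff_det_stair_mul]
  refine Finset.sum_congr rfl fun κ _ => ?_
  split_ifs with hκ
  · congr 1
    rw [det_jacobi_expand, coeff_sum]
    refine Finset.sum_congr rfl fun κ' _ => ?_
    split_ifs with hκ'
    · rw [← map_intCast (MvPolynomial.C : ℤ →+* SymRing n), coeff_C_mul, coeff_prod_hCoef]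
      simp
    · simp
  · rfl

end Cfsg.Agent.GLFlag
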