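import Mathlib
import Cfsg.Prelude.Def_LinearParabolics

/-! The block labels of a composition, and contingency matrices. -/

set_option autoImplicit false

namespace Cfsg.Agent.GLFlag

variable {n : ℕ}

/-- The position at which block `j` starts. -/
def blockStart (μ : Fin n → ℕ) (j : Fin n) : ℕ := ∑ k ∈ Finset.Iio j, μ k

theorem sum_Iic_eq (μ : Fin n → ℕ) (j : Fin n) :
    (∑ k ∈ Finset.univ.filter (fun k : Fin n => k ≤ j), μ k) = blockStart μ j + μ j := by
  rw [blockStart, show (Finset.univ.filter fun k : Fin n => k ≤ j) = insert j (Finset.Iio j) from ?_,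
    Finset.sum_insert (by simp), add_comm]
  ext k; simp [le_iff_eq_or_lt]

theorem blockEnd_le_blockStart (μ : Fin n → ℕ) {j k : Fin n} (h : j < k) :
    blockStart μ j + μ j ≤ blockStart μ k := by
  rw [← sum_Iic_eq]
  refine Finset.sum_le_sum_of_subset ?_
  intro x hx; simp at hx ⊢; exact lt_of_le_of_lt hx h

theorem blockStart_add_le {μ : Fin n → ℕ} (hμ : ∑ i, μ i = n) (j : Fin n) :
    blockStart μ j + μ j ≤ n := by
  rw [← sum_Iic_eq]
  exact le_trans (Finset.sum_le_sum_of_subset (Finset.subset_univ _)) (le_of_eq hμ)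

theorem filter_card_lt_iff (p : Fin n → Prop) [DecidablePred p]
    (hp : ∀ i j : Fin n, i ≤ j → p j → p i) (j : Fin n) :
    j.val < (Finset.univ.filter p).card ↔ p j := by
  constructor
  · intro h
    by_contra hj
    have : (Finset.univ.filter p) ⊆ Finset.Iio j := fun x hx => by
      simp at hx ⊢
      by_contra hxj
      exact hj (hp j x (not_lt.1 hxj) hx)
    have := Finset.card_le_card this
    rw [Fin.card_Iio] at this
    omega
  · intro h
    have : Finset.Iic j ⊆ Finset.univ.filter p := fun x hx => by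
      simp at hx ⊢
      exact hp x j hx h
    have := Finset.card_le_card this
    rw [Fin.card_Iic] at this
    omega

theorem lt_compLabel_iff (μ : Fin n → ℕ) (i j : Fin n) :
    j.val < Cfsg.compLabel μ i ↔ blockStart μ j + μ j ≤ i.val := by
  unfold Cfsg.compLabel
  rw [filter_card_lt_iff]
  · rw [sum_Iic_eq]
  · intro a b hab hb
    refine le_trans (Finset.sum_le_sum_of_subset ?_) hb
    intro x hx; simp at hx ⊢; exact le_trans hx hab

theorem compLabel_lt {μ : Fin n → ℕ} (hμ : ∑ i, μ i = n) (i : Fin n) :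
    Cfsg.compLabel μ i < n := by
  rcases n with _ | m
  · exact i.elim0
  by_contra h
  have hl := (lt_compLabel_iff μ i (Fin.last m)).1 (by simp; omega)
  rw [← sum_Iic_eq] at hl
  have : (Finset.univ.filter fun k : Fin (m+1) => k ≤ Fin.last m) = Finset.univ := by
    ext k; simp [Fin.le_last]
  rw [this, hμ] at hl
  have := i.isLt
  omega

theorem compLabel_mono (μ : Fin n → ℕ) {i j : Fin n} (h : i ≤ j) :
    Cfsg.compLabel μ i ≤ Cfsg.compLabel μ j :=
  Finset.card_le_card fun x hx => by
    simp at hx ⊢
    exact le_trans hx h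

/-- The block of a position. -/
def lab (μ : Fin n → ℕ) (hμ : ∑ i, μ i = n) (i : Fin n) : Fin n :=
  ⟨Cfsg.compLabel μ i, compLabel_lt hμ i⟩

theorem lab_mono {μ : Fin n → ℕ} (hμ : ∑ i, μ i = n) : Monotone (lab μ hμ) :=
  fun _ _ h => compLabel_mono μ h

theorem lab_eq_iff {μ : Fin n → ℕ} (hμ : ∑ i, μ i = n) (i j : Fin n) :
    lab μ hμ i = j ↔ blockStart μ j ≤ i.val ∧ i.val < blockStart μ j + μ j := by
  constructor
  · intro h
    have hv : Cfsg.compLabel μ i = j.val := congrArg Fin.val h
    have h1 : ¬ (j.val < Cfsg.compLabel μ i) := by omega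
    rw [lt_compLabel_iff] at h1
    refine ⟨?_, by omega⟩
    by_cases h0 : j.val = 0
    · have : blockStart μ j = 0 := by
        refine Finset.sum_eq_zero fun k hk => ?_
        simp at hk; exact absurd hk (by omega)
      omega
    · have hp := (lt_compLabel_iff μ i ⟨j.val - 1, by omega⟩).1 (by simp; omega)
      rw [← sum_Iic_eq] at hp
      refine le_trans (le_of_eq ?_) hp
      refine Finset.sum_congr ?_ fun _ _ => rfl
      ext k
      simp only [Finset.mem_filter, Finset.mem_univ, true_and, Finset.mem_Iio]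
      change k.val < j.val ↔ k.val ≤ j.val - 1
      omega
  · rintro ⟨h1, h2⟩
    apply Fin.ext
    change Cfsg.compLabel μ i = j.val
    apply le_antisymm
    · by_contra h
      have := (lt_compLabel_iff μ i j).1 (by omega)
      omega
    · by_contra h
      have hk : Cfsg.compLabel μ i < n := by have := j.isLt; omega
      have := lt_compLabel_iff μ i ⟨Cfsg.compLabel μ i, hk⟩
      have hb := blockEnd_le_blockStart μ
        (show (⟨Cfsg.compLabel μ i, hk⟩ : Fin n) < j by simp [Fin.lt_def]; omega)
      simp at this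
      omega

theorem card_lab_fibre {μ : Fin n → ℕ} (hμ : ∑ i, μ i = n) (j : Fin n) :
    (Finset.univ.filter fun i => lab μ hμ i = j).card = μ j := by
  have := blockStart_add_le hμ j
  have e : (Finset.univ.filter fun i => lab μ hμ i = j).map Fin.valEmbedding =
      Finset.Ico (blockStart μ j) (blockStart μ j + μ j) := by
    ext k
    simp only [Finset.mem_map, Finset.mem_filter, Finset.mem_univ, true_and, lab_eq_iff,
      Fin.valEmbedding_apply, Finset.mem_Ico]
    constructor
    · rintro ⟨i, hi, rfl⟩; exact hi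
    · intro hk; exact ⟨⟨k, by omega⟩, hk, rfl⟩
  rw [← Finset.card_map Fin.valEmbedding, e]
  simp

/-- Matrices of natural numbers with given row and column sums. -/
def Contingency (α β : Fin n → ℕ) : Type :=
  {m : Fin n → Fin n → ℕ // (∀ i, ∑ j, m i j = α i) ∧ (∀ j, ∑ i, m i j = β j)}

/-- The joint distribution of a pair of labellings. -/
def joint (a b : Fin n → Fin n) (x y : Fin n) : ℕ :=
  (Finset.univ.filter fun j => a j = x ∧ b j = y).card

theorem sum_joint_right (a b : Fin n → Fin n) (x : Fin n) :
    ∑ y, joint a b x y = (Finset.univ.filter fun j => a j = x).card := by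
  rw [Finset.card_eq_sum_card_fiberwise (s := Finset.univ.filter fun j => a j = x) (f := b)
    (t := Finset.univ) (by simp)]
  simp [joint, Finset.filter_filter]

theorem sum_joint_left (a b : Fin n → Fin n) (y : Fin n) :
    ∑ x, joint a b x y = (Finset.univ.filter fun j => b j = y).card := by
  rw [Finset.card_eq_sum_card_fiberwise (s := Finset.univ.filter fun j => b j = y) (f := a)
    (t := Finset.univ) (by simp)]
  refine Finset.sum_congr rfl fun x _ => ?_
  rw [joint, Finset.filter_filter]
  congr 1; ext j; simp [and_comm]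

/-- Two maps with the same fibre sizes differ by a permutation. -/
theorem exists_perm_of_fibre_card {ι κ : Type*} [Fintype ι] [DecidableEq κ] (f g : ι → κ)
    (h : ∀ k, (Finset.univ.filter fun i => f i = k).card = (Finset.univ.filter fun i => g i = k).card) :
    ∃ τ : Equiv.Perm ι, ∀ i, g (τ i) = f i := by
  classical
  have e : ∀ k, {i // f i = k} ≃ {i // g i = k} := fun k =>
    Fintype.equivOfCardEq (by rw [Fintype.card_subtype, Fintype.card_subtype, h])
  exact ⟨Equiv.ofFiberEquiv e, fun i => Equiv.ofFiberEquiv_map e i⟩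

/-- Every contingency matrix comes from some permutation. -/
theorem exists_perm_joint (a b : Fin n → Fin n) (m : Fin n → Fin n → ℕ)
    (ha : ∀ x, ∑ y, m x y = (Finset.univ.filter fun i => a i = x).card)
    (hb : ∀ y, ∑ x, m x y = (Finset.univ.filter fun i => b i = y).card) :
    ∃ w : Equiv.Perm (Fin n), joint (fun j => a (w j)) b = m := by
  classical
  have e1 : ∀ x, {i // a i = x} ≃ {p : Σ xy : Fin n × Fin n, Fin (m xy.1 xy.2) // p.1.1 = x} := fun x => by
    refine Fintype.equivOfCardEq ?_
    rw [Fintype.card_subtype, ← ha]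
    symm
    rw [Fintype.card_congr (Equiv.subtypeSigmaEquiv (fun xy : Fin n × Fin n => Fin (m xy.1 xy.2))
      (fun xy => xy.1 = x))]
    rw [Fintype.card_sigma]
    simp only [Fintype.card_fin]
    rw [Finset.sum_subtype (Finset.univ.filter fun xy : Fin n × Fin n => xy.1 = x) (by simp)
      (fun xy : Fin n × Fin n => m xy.1 xy.2) |>.symm]
    rw [Finset.sum_filter, Fintype.sum_prod_type]
    simp
  have e2 : ∀ y, {i // b i = y} ≃ {p : Σ xy : Fin n × Fin n, Fin (m xy.1 xy.2) // p.1.2 = y} := fun y => by
    refine Fintype.equivOfCardEq ?_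
    rw [Fintype.card_subtype, ← hb]
    symm
    rw [Fintype.card_congr (Equiv.subtypeSigmaEquiv (fun xy : Fin n × Fin n => Fin (m xy.1 xy.2))
      (fun xy => xy.2 = y))]
    rw [Fintype.card_sigma]
    simp only [Fintype.card_fin]
    rw [Finset.sum_subtype (Finset.univ.filter fun xy : Fin n × Fin n => xy.2 = y) (by simp)
      (fun xy : Fin n × Fin n => m xy.1 xy.2) |>.symm]
    rw [Finset.sum_filter, Fintype.sum_prod_type]
    simp
  set E1 := Equiv.ofFiberEquiv e1 with hE1
  set E2 := Equiv.ofFiberEquiv e2 with hE2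
  have h1 : ∀ i, (E1 i).1.1 = a i := fun i => Equiv.ofFiberEquiv_map e1 i
  have h2 : ∀ i, (E2 i).1.2 = b i := fun i => Equiv.ofFiberEquiv_map e2 i
  refine ⟨E2.trans E1.symm, ?_⟩
  funext x y
  have hax : ∀ j, a ((E2.trans E1.symm) j) = (E2 j).1.1 := fun j => by
    rw [← h1]; simp
  simp only [joint, hax, ← h2]
  rw [← Fintype.card_subtype]
  rw [Fintype.card_congr ((E2.subtypeEquiv (q := fun p => p.1.1 = x ∧ p.1.2 = y) fun j => Iff.rfl))]
  rw [Fintype.card_congr (Equiv.subtypeSigmaEquiv (fun xy : Fin n × Fin n => Fin (m xy.1 xy.2))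
      (fun xy => xy.1 = x ∧ xy.2 = y))]
  rw [Fintype.card_sigma]
  simp only [Fintype.card_fin]
  rw [Finset.sum_subtype ({(x, y)} : Finset (Fin n × Fin n)) (by simp [Prod.ext_iff])
      (fun xy : Fin n × Fin n => m xy.1 xy.2) |>.symm]
  simp

end Cfsg.Agent.GLFlag
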