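import Cfsg.Agent.GLFlag.Bruhat

/-!
Over the field with two elements at most `|B|^2` elements `g` have `B ∩ gBg⁻¹ = 1`, `B` upper
triangular; hence no index-two overgroup has two Sylow 2-subgroups with trivial intersection.
-/

set_option autoImplicit false

namespace Cfsg.Agent.GLFlag

open Matrix
open scoped MatrixGroups Pointwise

variable {n : ℕ} {F : Type*} [Field F]

/-- elements moving the triangular group to a group meeting it trivially -/
def Opp (H : Subgroup (GL (Fin n) F)) : Set (GL (Fin n) F) :=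
  {g | ∀ h ∈ H, g⁻¹ * h * g ∈ H → h = 1}

theorem exists_eq_rev {g : GL (Fin n) F} (hg : g ∈ Opp (Cfsg.upperTriangularGL n F)) :
    ∃ b₁ ∈ Cfsg.upperTriangularGL n F, ∃ b₂ ∈ Cfsg.upperTriangularGL n F,
      g = b₁ * permGL F Fin.revPerm * b₂ := by
  obtain ⟨σ, b₁, h₁, b₂, h₂, rfl⟩ := exists_bruhat g
  refine ⟨b₁, h₁, b₂, h₂, ?_⟩
  suffices hσ : σ = Fin.revPerm by rw [hσ]
  by_contra hne
  obtain ⟨i, j, hij, hσij⟩ : ∃ i j, i < j ∧ σ i < σ j := by
    by_contra hc
    push Not at hc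
    refine hne ?_
    have hmono : StrictMono (σ ∘ Fin.rev) := fun a b hab =>
      lt_of_le_of_ne (hc _ _ (Fin.rev_lt_rev.2 hab))
        (fun h => hab.ne (Fin.rev_injective (σ.injective h)))
    have h := (hmono.range_inj (strictMono_id (α := Fin n))).1 (by
      rw [Set.range_id, Function.Surjective.range_eq (σ.surjective.comp Fin.rev_surjective)])
    ext a : 1
    have := congrFun h (Fin.rev a)
    simpa [Function.comp] using this
  have hd : ∀ a b : Fin n, a ≠ b → (Pi.single b 1 : Fin n → F) ⬝ᵥ Pi.single a 1 = 0 := by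
    intro a b hab; simp [hab]
  set T := rankOneUnit (Pi.single (σ i) (1 : F)) (Pi.single (σ j) 1) (hd _ _ hσij.ne) with hT
  set T' := rankOneUnit (Pi.single i (1 : F)) (Pi.single j 1) (hd _ _ hij.ne) with hT'
  have hmem : ∀ a b : Fin n, ∀ hab : a < b,
      rankOneUnit (Pi.single a (1 : F)) (Pi.single b 1) (hd _ _ hab.ne) ∈
        Cfsg.upperTriangularGL n F := fun a b hab => rankOneUnit_mem_upper _ _ _ fun u v huv => by
    by_cases h1 : u = a
    · by_cases h2 : v = b
      · subst h1; subst h2; exact absurd huv (lt_asymm hab)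
      · simp [h2]
    · simp [h1]
  have hconj : permGL F σ * T' = T * permGL F σ := by
    refine Units.ext (Matrix.ext fun a c => ?_)
    rw [Units.val_mul, Units.val_mul, hT', hT,
      mul_rankOneUnit_apply, rankOneUnit_mul_apply, coe_permGL]
    simp only [permMat_apply, Pi.single_apply, mul_ite, mul_one, mul_zero, ite_mul, one_mul,
      zero_mul, σ.apply_eq_iff_eq]
    congr 1
    by_cases h1 : a = σ i
    · subst h1; simp
    · simp [h1, Ne.symm h1]
  have hb : b₁ * T * b₁⁻¹ = 1 := by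
    refine hg _ (mul_mem (mul_mem h₁ (hmem _ _ hσij)) (inv_mem h₁)) ?_
    have e : (b₁ * permGL F σ * b₂)⁻¹ * (b₁ * T * b₁⁻¹) * (b₁ * permGL F σ * b₂) =
        b₂⁻¹ * ((permGL F σ)⁻¹ * (T * permGL F σ)) * b₂ := by group
    rw [e, ← hconj, inv_mul_cancel_left]
    exact mul_mem (mul_mem (inv_mem h₂) (hmem _ _ hij)) h₂
  have hT1 : T = 1 := by
    calc T = b₁⁻¹ * (b₁ * T * b₁⁻¹) * b₁ := by group
      _ = 1 := by rw [hb]; simp
  have := congrArg (fun t : GL (Fin n) F => (t : Matrix (Fin n) (Fin n) F) (σ i) (σ j)) hT1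
  simp [hT, rankOneUnit, vecMulVec_apply, Matrix.one_apply, hσij.ne] at this

theorem card_opp_le [Finite F] :
    Nat.card (Opp (Cfsg.upperTriangularGL n F)) ≤
      Nat.card (Cfsg.upperTriangularGL n F) * Nat.card (Cfsg.upperTriangularGL n F) := by
  rw [← Nat.card_prod]
  let f : Cfsg.upperTriangularGL n F × Cfsg.upperTriangularGL n F → GL (Fin n) F :=
    fun p => (p.1 : GL (Fin n) F) * permGL F Fin.revPerm * (p.2 : GL (Fin n) F)
  have hsub : Opp (Cfsg.upperTriangularGL n F) ⊆ Set.range f := by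
    intro g hg
    obtain ⟨b₁, h₁, b₂, h₂, rfl⟩ := exists_eq_rev hg
    exact ⟨(⟨b₁, h₁⟩, ⟨b₂, h₂⟩), rfl⟩
  exact (Nat.card_mono (Set.finite_range f) hsub).trans (Finite.card_range_le f)

theorem isPGroup_upper [NeZero n] (hF : ∀ a : F, a ≠ 0 → a = 1) [CharP F 2] :
    IsPGroup 2 (Cfsg.upperTriangularGL n F) := by
  haveI : Fact (Nat.Prime 2) := ⟨Nat.prime_two⟩
  rintro ⟨g, hg⟩
  refine ⟨n, Subtype.ext (Units.ext ?_)⟩
  set A : Matrix (Fin n) (Fin n) F := ↑g with hA
  have hup : A.IsUpperTriangular := fun i j hij => mem_upper.1 hg i j hij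
  have hdiag : ∀ i, A i i = 1 := by
    intro i
    refine hF _ fun h0 => ?_
    have hdet : A.det ≠ 0 := ((Matrix.isUnit_iff_isUnit_det A).1 g.isUnit).ne_zero
    rw [Matrix.det_of_upperTriangular hup] at hdet
    exact hdet (Finset.prod_eq_zero (Finset.mem_univ i) h0)
  have hpow : ∀ k : ℕ, ∀ i j : Fin n, (j : ℕ) < i + k → ((A + 1) ^ k) i j = 0 := by
    intro k
    induction k with
    | zero =>
      intro i j hij
      have : i ≠ j := fun h => by subst h; omega
      simp [this]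
    | succ k ih =>
      intro i j hij
      rw [pow_succ, Matrix.mul_apply]
      refine Finset.sum_eq_zero fun l _ => ?_
      by_cases hl : (l : ℕ) < i + k
      · rw [ih i l hl, zero_mul]
      · by_cases hlj : l = j
        · subst hlj
          rw [Matrix.add_apply, hdiag, Matrix.one_apply_eq, CharTwo.add_self_eq_zero, mul_zero]
        · have : j < l := by
            rcases lt_trichotomy (l : ℕ) j with h | h | h
            · omega
            · exact absurd (Fin.ext h) hlj
            · exact h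
          rw [Matrix.add_apply, (hup this : A l j = 0), Matrix.one_apply_ne hlj, add_zero,
            mul_zero]
  have h0 : (A + 1) ^ (2 ^ n) = 0 := by
    ext i j
    exact hpow _ i j (j.isLt.trans_le ((Nat.lt_two_pow_self).le.trans (Nat.le_add_left _ _)))
  rw [add_pow_char_pow_of_commute 2 n (Commute.one_right A), one_pow,
    add_eq_zero_iff_eq_neg, CharTwo.neg_eq] at h0
  simpa [hA] using h0

theorem card_opp_sylow [Finite F] [NeZero n] (hF : ∀ a : F, a ≠ 0 → a = 1) [CharP F 2]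
    (S : Sylow 2 (GL (Fin n) F)) :
    Nat.card (Opp (S : Subgroup (GL (Fin n) F))) ≤
      Nat.card (S : Subgroup (GL (Fin n) F)) * Nat.card (S : Subgroup (GL (Fin n) F)) := by
  haveI : Fact (Nat.Prime 2) := ⟨Nat.prime_two⟩
  obtain ⟨T, hT⟩ := (isPGroup_upper (n := n) (F := F) hF).exists_le_sylow
  obtain ⟨y, rfl⟩ := MulAction.exists_smul_eq (GL (Fin n) F) T S
  have hmem : ∀ z, z ∈ ((y • T : Sylow 2 (GL (Fin n) F)) : Subgroup (GL (Fin n) F)) ↔
      y⁻¹ * z * y ∈ (T : Subgroup (GL (Fin n) F)) := fun z => by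
    rw [Sylow.coe_subgroup_smul, Subgroup.mem_pointwise_smul_iff_inv_smul_mem]
    simp [MulAut.conj_symm_apply]
  let φ : Opp ((y • T : Sylow 2 (GL (Fin n) F)) : Subgroup (GL (Fin n) F)) →
      Opp (Cfsg.upperTriangularGL n F) := fun g =>
    ⟨y⁻¹ * (g : GL (Fin n) F) * y, fun h hh hh' => by
      have h1 := g.2 (y * h * y⁻¹) ((hmem _).2 (by simpa [mul_assoc] using hT hh))
        ((hmem _).2 (by simpa [mul_assoc] using hT hh'))
      simpa [mul_inv_eq_one] using h1⟩
  have hφ : Function.Injective φ := fun a b hab => by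
    have := congrArg Subtype.val hab
    exact Subtype.ext (by simpa [φ] using this)
  refine (Nat.card_le_card_of_injective φ hφ).trans (card_opp_le.trans ?_)
  have h1 : Nat.card (Cfsg.upperTriangularGL n F) ≤
      Nat.card ((y • T : Sylow 2 (GL (Fin n) F)) : Subgroup (GL (Fin n) F)) := by
    rw [Sylow.card_eq_multiplicity, ← T.card_eq_multiplicity]
    exact Nat.le_of_dvd Nat.card_pos (Subgroup.card_dvd_of_le hT)
  exact Nat.mul_le_mul h1 h1

theorem inf_ne_bot_of_index_two [Finite F] [NeZero n] (hF : ∀ a : F, a ≠ 0 → a = 1) [CharP F 2]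
    {G : Type*} [Group G] [Finite G] (N : Subgroup G) [N.Normal] (e : N ≃* GL (Fin n) F)
    (hidx : N.index = 2) (H : Sylow 2 G) (x : G) :
    (H : Subgroup G) ⊓ MulAut.conj x • (H : Subgroup G) ≠ ⊥ := by
  haveI : Fact (Nat.Prime 2) := ⟨Nat.prime_two⟩
  intro hbot
  have hodd : ¬ 2 ∣ (H : Subgroup G).index := H.not_dvd_index
  have hex : ∃ t ∈ (H : Subgroup G), t ∉ N := by
    by_contra hc
    push Not at hc
    refine hodd ?_
    have := Subgroup.index_dvd_of_le hc
    rwa [hidx] at this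
  obtain ⟨t, htH, htN⟩ := hex
  obtain ⟨a, ha, k, hk, rfl⟩ : ∃ a ∈ N, ∃ k ∈ (H : Subgroup G), a * k = x := by
    by_cases hx : x ∈ N
    · exact ⟨x, hx, 1, one_mem _, mul_one x⟩
    · refine ⟨x * t⁻¹, ?_, t, htH, inv_mul_cancel_right x t⟩
      rw [Subgroup.mul_mem_iff_of_index_two hidx, inv_mem_iff]
      simp [hx, htN]
  set S := ((H : Subgroup G).subgroupOf N).map e.toMonoidHom with hS
  have hcS : Nat.card S * 2 = Nat.card (H : Subgroup G) := by
    rw [hS, Nat.card_congr (Subgroup.equivMapOfInjective _ _ e.injective).toEquiv.symm]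
    have h2 : N.relIndex (H : Subgroup G) = 2 := by
      have hd : N.relIndex (H : Subgroup G) ∣ 2 := by
        have := Subgroup.relIndex_dvd_index_of_normal N (H : Subgroup G)
        rwa [hidx] at this
      rcases (Nat.dvd_prime Nat.prime_two).1 hd with h | h
      · exact absurd (Subgroup.relIndex_eq_one.1 h htH) htN
      · exact h
    have h3 := (N.subgroupOf (H : Subgroup G)).card_mul_index
    rw [show (N.subgroupOf (H : Subgroup G)).index = 2 from h2] at h3
    rw [← h3]
    congr 1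
    exact Nat.card_congr ⟨fun z => ⟨⟨z.1.1, z.2⟩, z.1.2⟩, fun z => ⟨⟨z.1.1, z.2⟩, z.1.2⟩,
      fun z => rfl, fun z => rfl⟩
  have hpS : IsPGroup 2 S := (H.2.comap_subtype).map e.toMonoidHom
  obtain ⟨T, hT⟩ := hpS.exists_le_sylow
  have hTS : Nat.card (T : Subgroup (GL (Fin n) F)) = Nat.card S := by
    obtain ⟨k, hk⟩ := T.2.exists_card_eq
    refine Nat.dvd_antisymm ?_ (Subgroup.card_dvd_of_le hT)
    have h1 : Nat.card (T : Subgroup (GL (Fin n) F)) ∣ Nat.card N := by
      rw [Nat.card_congr e.toEquiv]; exact Subgroup.card_subgroup_dvd_card _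
    have h2 : Nat.card (T : Subgroup (GL (Fin n) F)) * 2 ∣ Nat.card (H : Subgroup G) := by
      have h4 : Nat.card (T : Subgroup (GL (Fin n) F)) * 2 ∣ Nat.card G := by
        rw [← N.card_mul_index, hidx]; exact Nat.mul_dvd_mul_right h1 2
      rw [hk, ← pow_succ] at h4 ⊢
      rw [H.card_eq_multiplicity]
      exact Nat.pow_dvd_pow 2 ((Nat.Prime.pow_dvd_iff_le_factorization Nat.prime_two
        Nat.card_pos.ne').1 h4)
    rw [← hcS] at h2
    exact Nat.dvd_of_mul_dvd_mul_right two_pos h2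
  have hmem : ∀ z : N, e z ∈ (T : Subgroup (GL (Fin n) F)) ↔ (z : G) ∈ (H : Subgroup G) := by
    have hTeq : S = (T : Subgroup (GL (Fin n) F)) :=
      Subgroup.eq_of_le_of_card_ge hT hTS.le
    intro z
    rw [← hTeq, hS]
    constructor
    · rintro ⟨w, hw, hwz⟩
      rw [← e.injective hwz]; exact hw
    · intro hz; exact ⟨z, hz, rfl⟩
  have htriv : ∀ z ∈ (H : Subgroup G), a⁻¹ * z * a ∈ (H : Subgroup G) → z = 1 := by
    intro z hz hz'
    have : z ∈ (H : Subgroup G) ⊓ MulAut.conj (a * k) • (H : Subgroup G) := by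
      refine Subgroup.mem_inf.2 ⟨hz, ?_⟩
      rw [Subgroup.mem_pointwise_smul_iff_inv_smul_mem]
      simp only [MulAut.smul_def, MulAut.inv_def, MulAut.conj_symm_apply]
      have e1 : (a * k)⁻¹ * z * (a * k) = k⁻¹ * (a⁻¹ * z * a) * k := by group
      rw [e1]
      exact mul_mem (mul_mem (inv_mem hk) hz') hk
    rw [hbot] at this
    exact Subgroup.mem_bot.1 this
  have hinN : ∀ u : G, u * a * u⁻¹ ∈ N := fun u => (inferInstance : N.Normal).conj_mem a ha u
  let ψ : ↥(H : Subgroup G) × ↥(T : Subgroup (GL (Fin n) F)) → GL (Fin n) F := fun p =>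
    e ⟨(p.1 : G) * a * (p.1 : G)⁻¹, hinN _⟩ * p.2
  have hψopp : ∀ p, ψ p ∈ Opp (T : Subgroup (GL (Fin n) F)) := by
    rintro ⟨⟨u, hu⟩, ⟨s, hs⟩⟩ w hw hw'
    simp only [ψ] at hw'
    set A' := e ⟨u * a * u⁻¹, hinN u⟩ with hA'
    have hw2 : A'⁻¹ * w * A' ∈ (T : Subgroup (GL (Fin n) F)) := by
      have := mul_mem (mul_mem hs hw') (inv_mem hs)
      simpa [_root_.mul_inv_rev, mul_assoc] using this
    obtain ⟨z, rfl⟩ := e.surjective w
    rw [hA', ← map_inv, ← map_mul, ← map_mul, hmem] at hw2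
    rw [hmem] at hw
    simp only [Subgroup.coe_mul, Subgroup.coe_inv] at hw2
    have h1 := htriv (u⁻¹ * (z : G) * u) (mul_mem (mul_mem (inv_mem hu) hw) hu) (by
      have := mul_mem (mul_mem (inv_mem hu) hw2) hu
      simpa [_root_.mul_inv_rev, mul_assoc] using this)
    have : (z : G) = 1 := by
      have := congrArg (fun r => u * r * u⁻¹) h1
      simpa [mul_assoc] using this
    rw [Subtype.ext (a1 := z) (a2 := 1) this, map_one]
  have hψinj : Function.Injective fun p => (⟨ψ p, hψopp p⟩ : Opp (T : Subgroup (GL (Fin n) F))) := by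
    rintro ⟨⟨u, hu⟩, ⟨s, hs⟩⟩ ⟨⟨v, hv⟩, ⟨r, hr⟩⟩ hpq
    have h0 := congrArg Subtype.val hpq
    simp only [ψ] at h0
    obtain ⟨s', rfl⟩ := e.surjective s
    obtain ⟨r', rfl⟩ := e.surjective r
    rw [hmem] at hs hr
    rw [← map_mul, ← map_mul] at h0
    have h1 := congrArg Subtype.val (e.injective h0)
    simp only [Subgroup.coe_mul] at h1
    have huv : v⁻¹ * u = 1 := by
      refine htriv _ (mul_mem (inv_mem hv) hu) ?_
      have e1 : a⁻¹ * (v⁻¹ * u) * a = v⁻¹ * (r' : G) * (s' : G)⁻¹ * u := by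
        calc a⁻¹ * (v⁻¹ * u) * a
            = a⁻¹ * v⁻¹ * (u * a * u⁻¹ * (s' : G)) * (s' : G)⁻¹ * u := by group
          _ = _ := by rw [h1]; group
      rw [e1]
      exact mul_mem (mul_mem (mul_mem (inv_mem hv) hr) (inv_mem hs)) hu
    obtain rfl : v = u := inv_mul_eq_one.1 huv
    have h2 : s' = r' := Subtype.ext (mul_left_cancel h1)
    subst h2
    rfl
  have hle := (Nat.card_le_card_of_injective _ hψinj).trans (card_opp_sylow hF T)
  rw [Nat.card_prod, ← hcS, hTS] at hle
  have hpos : 0 < Nat.card S * Nat.card S := Nat.mul_pos Nat.card_pos Nat.card_pos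
  nlinarith

end Cfsg.Agent.GLFlag
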