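import Cfsg.Agent.GLFlag.DoubleCosets

/-! The order of a standard parabolic subgroup of the general linear group. -/

set_option autoImplicit false

namespace Cfsg.Agent.GLFlag

open Matrix
open scoped MatrixGroups

variable {n : ℕ} {F : Type*} [Field F]

/-- The q-integer `1 + q + ⋯ + q^(r-1)`. -/
def qInt (q r : ℕ) : ℕ := ∑ l ∈ Finset.range r, q ^ l

/-- The q-factorial. -/
def qFact (q r : ℕ) : ℕ := ∏ j ∈ Finset.range r, qInt q (j + 1)

theorem qFact_pos {q : ℕ} (r : ℕ) : 0 < qFact q r := by
  refine Finset.prod_pos fun j _ => ?_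
  unfold qInt
  rw [Finset.sum_range_succ']
  simp

theorem pow_sub_pow_eq (q i k : ℕ) (hq : 1 ≤ q) :
    q ^ (i + k) - q ^ i = q ^ i * ((q - 1) * qInt q k) := by
  have h : (q - 1) * qInt q k + 1 = q ^ k := by
    induction k with
    | zero => simp [qInt]
    | succ k ih =>
      rw [qInt, Finset.sum_range_succ, ← qInt, Nat.mul_add]
      calc (q - 1) * qInt q k + (q - 1) * q ^ k + 1 = (q - 1) * q ^ k + q ^ k := by omega
        _ = (q - 1 + 1) * q ^ k := by ring
        _ = q ^ (k + 1) := by rw [Nat.sub_add_cancel hq]; ring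
  rw [Nat.sub_eq_iff_eq_add (Nat.pow_le_pow_right hq (Nat.le_add_right i k)), pow_add, ← h]
  ring

theorem card_GL_eq [Fintype F] {ι : Type*} [Fintype ι] [DecidableEq ι] :
    Nat.card (GL ι F) = Fintype.card F ^ (Fintype.card ι).choose 2 *
      (Fintype.card F - 1) ^ Fintype.card ι * qFact (Fintype.card F) (Fintype.card ι) := by
  set m := Fintype.card ι
  have e : GL ι F ≃ GL (Fin m) F :=
    (Units.mapEquiv (Matrix.reindexAlgEquiv F F (Fintype.equivFin ι)).toRingEquiv.toMulEquiv).toEquiv
  rw [Nat.card_congr e, Matrix.card_GL_field, Finset.prod_congr rfl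
    (fun (i : Fin m) _ => show Fintype.card F ^ m - Fintype.card F ^ (i : ℕ) =
      Fintype.card F ^ (i : ℕ) * ((Fintype.card F - 1) * qInt (Fintype.card F) (m - i)) by
        have h := pow_sub_pow_eq (Fintype.card F) (i : ℕ) (m - i) Fintype.card_pos
        rwa [show (i : ℕ) + (m - i) = m by omega] at h)]
  rw [Finset.prod_mul_distrib, Finset.prod_mul_distrib, Finset.prod_const, Finset.card_univ,
    Fintype.card_fin, Finset.prod_pow_eq_pow_sum, mul_assoc]
  congr 2
  · rw [Nat.choose_two_right, Fin.sum_univ_eq_sum_range (fun i => i), Finset.sum_range_id]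
  · rw [qFact, ← Finset.prod_range_reflect, Fin.prod_univ_eq_prod_range
      (fun i => qInt (Fintype.card F) (m - i))]
    refine Finset.prod_congr rfl fun i hi => ?_
    rw [Finset.mem_range] at hi
    congr 1
    omega

variable {μ : Fin n → ℕ} (hμ : ∑ i, μ i = n)

/-- The positions above the block diagonal. -/
abbrev UpperPos : Type := {p : Fin n × Fin n // lab μ hμ p.1 < lab μ hμ p.2}

/-- The block triangular matrix with given diagonal blocks and upper entries. -/
def assemble (b : ∀ x, Matrix {i // lab μ hμ i = x} {i // lab μ hμ i = x} F)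
    (u : UpperPos hμ → F) : Matrix (Fin n) (Fin n) F :=
  Matrix.of fun i j => if h : lab μ hμ j = lab μ hμ i then b (lab μ hμ i) ⟨i, rfl⟩ ⟨j, h⟩
    else if h' : lab μ hμ i < lab μ hμ j then u ⟨(i, j), h'⟩ else 0

theorem assemble_blockTriangular (b : ∀ x, Matrix {i // lab μ hμ i = x} {i // lab μ hμ i = x} F)
    (u : UpperPos hμ → F) : (assemble hμ b u).BlockTriangular (lab μ hμ) := by
  intro i j hij
  simp [assemble, hij.ne, not_lt.2 hij.le]

theorem assemble_block (b : ∀ x, Matrix {i // lab μ hμ i = x} {i // lab μ hμ i = x} F)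
    (u : UpperPos hμ → F) (x : Fin n) :
    (assemble hμ b u).toSquareBlock (lab μ hμ) x = b x := by
  ext i j
  obtain ⟨i, hi⟩ := i
  obtain ⟨j, hj⟩ := j
  subst hi
  simp [assemble, Matrix.toSquareBlock, Matrix.toSquareBlockProp_def, hj]

/-- Invertible block triangular matrices are pairs of diagonal blocks and upper entries. -/
noncomputable def parabolicEquiv :
    ↥(Cfsg.parabolicGL n F μ) ≃ (∀ x, GL {i // lab μ hμ i = x} F) × (UpperPos hμ → F) where
  toFun g :=
    (fun x => Matrix.GeneralLinearGroup.mkOfDetNeZero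
      ((g.1 : Matrix (Fin n) (Fin n) F).toSquareBlock (lab μ hμ) x) (by
        have ht : (g.1 : Matrix (Fin n) (Fin n) F).BlockTriangular (lab μ hμ) :=
          fun i j hij => (mem_parabolic hμ).1 g.2 i j hij
        have := g.1.det.ne_zero
        rw [Matrix.GeneralLinearGroup.val_det_apply, ht.det_fintype] at this
        exact Finset.prod_ne_zero_iff.1 this x (Finset.mem_univ x)),
      fun p => (g.1 : Matrix (Fin n) (Fin n) F) p.1.1 p.1.2)
  invFun p :=
    ⟨Matrix.GeneralLinearGroup.mkOfDetNeZero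
        (assemble hμ (fun x => ((p.1 x : GL {i // lab μ hμ i = x} F) : Matrix {i // lab μ hμ i = x} {i // lab μ hμ i = x} F)) p.2) (by
        rw [(assemble_blockTriangular hμ _ _).det_fintype]
        refine Finset.prod_ne_zero_iff.2 fun x _ => ?_
        rw [assemble_block]
        exact (p.1 x).det.ne_zero),
      (mem_parabolic hμ).2 fun i j hij => by
        simp [Matrix.GeneralLinearGroup.mkOfDetNeZero, assemble, hij.ne, not_lt.2 hij.le]⟩
  left_inv g := by
    refine Subtype.ext (Units.ext ?_)
    ext i j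
    simp only [assemble, Matrix.GeneralLinearGroup.mkOfDetNeZero]
    by_cases h : lab μ hμ j = lab μ hμ i
    · simp [h, Matrix.toSquareBlock, Matrix.toSquareBlockProp_def]
    · by_cases h' : lab μ hμ i < lab μ hμ j
      · simp [h, h']
      · simp [h, h']
        exact ((mem_parabolic hμ).1 g.2 i j (lt_of_le_of_ne (not_lt.1 h') h)).symm
  right_inv p := by
    refine Prod.ext (funext fun x => Units.ext ?_) (funext fun u => ?_)
    · exact assemble_block hμ (fun y => ((p.1 y : GL {i // lab μ hμ i = y} F) : Matrix {i // lab μ hμ i = y} {i // lab μ hμ i = y} F)) p.2 x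
    · simp [assemble, Matrix.GeneralLinearGroup.mkOfDetNeZero, u.2.ne', u.2]

include hμ in
theorem choose_two_eq :
    n.choose 2 = ∑ x, (μ x).choose 2 + Fintype.card (UpperPos hμ) := by
  classical
  rw [show n.choose 2 = (Finset.univ.filter fun p : Fin n × Fin n => p.1 < p.2).card by
    rw [Fintype.card_product_filter_lt, Fintype.card_fin]]
  have hmono := lab_mono hμ
  rw [← Finset.card_filter_add_card_filter_not
    (s := (Finset.univ : Finset (Fin n × Fin n)).filter fun p => p.1 < p.2)
    (fun p => lab μ hμ p.1 = lab μ hμ p.2)]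
  congr 1
  · rw [Finset.card_eq_sum_card_fiberwise (f := fun p => lab μ hμ p.1) (t := Finset.univ) (by simp)]
    refine Finset.sum_congr rfl fun x _ => ?_
    rw [← card_lab_fibre hμ x]
    have := Finset.card_product_filter_lt (s := Finset.univ.filter fun i => lab μ hμ i = x)
    rw [← this]
    congr 1
    ext ⟨i, j⟩
    simp
    constructor
    · rintro ⟨⟨h1, h2⟩, h3⟩; exact ⟨⟨h3, h2 ▸ h3⟩, h1⟩
    · rintro ⟨⟨h1, h2⟩, h3⟩; exact ⟨⟨h3, h1.trans h2.symm⟩, h1⟩
  · rw [Fintype.card_subtype]
    congr 1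
    ext ⟨i, j⟩
    simp
    constructor
    · rintro ⟨h1, h2⟩; exact lt_of_le_of_ne (hmono h1.le) h2
    · intro h
      exact ⟨lt_of_not_ge fun hji => absurd h (not_lt.2 (hmono hji)), h.ne⟩

include hμ in
theorem card_parabolic_mul_qFact [Fintype F] :
    Nat.card (GL (Fin n) F) * ∏ x, qFact (Fintype.card F) (μ x) =
      Nat.card ↥(Cfsg.parabolicGL n F μ) * qFact (Fintype.card F) n := by
  classical
  rw [Nat.card_congr (parabolicEquiv hμ), Nat.card_prod, Nat.card_pi, Nat.card_fun,
    card_GL_eq (ι := Fin n), Fintype.card_fin, choose_two_eq hμ]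
  have hcard : ∀ x, Fintype.card {i // lab μ hμ i = x} = μ x := fun x => by
    rw [Fintype.card_subtype, card_lab_fibre]
  rw [Finset.prod_congr rfl fun x (_ : x ∈ (Finset.univ : Finset (Fin n))) =>
    (card_GL_eq (F := F) (ι := {i // lab μ hμ i = x})).trans (by rw [hcard x])]
  simp only [Finset.prod_mul_distrib, Finset.prod_pow_eq_pow_sum, hμ,
    Nat.card_eq_fintype_card, pow_add]
  ring

include hμ in
theorem card_quotient_parabolic [Fintype F] :
    Nat.card (GL (Fin n) F ⧸ Cfsg.parabolicGL n F μ) * ∏ x, qFact (Fintype.card F) (μ x) =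
      qFact (Fintype.card F) n := by
  classical
  have h := card_parabolic_mul_qFact (F := F) hμ
  rw [Subgroup.card_eq_card_quotient_mul_card_subgroup (Cfsg.parabolicGL n F μ)] at h
  have hpos : 0 < Nat.card ↥(Cfsg.parabolicGL n F μ) := Nat.card_pos
  refine Nat.eq_of_mul_eq_mul_left hpos ?_
  rw [← h]; ring

end Cfsg.Agent.GLFlag
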