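import Cfsg.Agent.GLFlag.ChainSum

/-!
The signed chain sum of the invariant subspaces of a semisimple endomorphism.
-/

set_option autoImplicit false
set_option linter.unusedSectionVars false

namespace Cfsg.Agent.GLFlag.SSZeta

open Polynomial Finset Chains
open scoped Classical

universe u v

variable {F : Type u} [Field F] [Fintype F] {M : Type v} [AddCommGroup M] [Module F[X] M]
  [Module F M] [IsScalarTower F F[X] M] [Finite M]

/-- The dimension over the field. -/
noncomputable def dimF (W : Submodule F[X] M) : ℕ := Module.finrank F ↥(W.restrictScalars F)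

theorem dimF_bot : dimF (⊥ : Submodule F[X] M) = 0 := by
  rw [dimF, Submodule.restrictScalars_bot, finrank_bot]

instance moduleFinite : Module.Finite F M := Module.Finite.of_finite

theorem dimF_strictMono : StrictMono (dimF (F := F) (M := M)) := fun W U h =>
  Submodule.finrank_lt_finrank_of_lt ((Submodule.restrictScalarsEmbedding F F[X] M).strictMono h)

theorem dimF_sup {A B : Submodule F[X] M} (h : A ⊓ B = ⊥) : dimF (A ⊔ B) = dimF A + dimF B := by
  have h1 : (A ⊔ B).restrictScalars F = A.restrictScalars F ⊔ B.restrictScalars F := by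
    ext x
    simp [Submodule.mem_sup]
  have h2 : A.restrictScalars F ⊓ B.restrictScalars F = ⊥ := by
    rw [← Submodule.restrictScalars_inf, h, Submodule.restrictScalars_bot]
  have := Submodule.finrank_sup_add_finrank_inf_eq (A.restrictScalars F) (B.restrictScalars F)
  rw [h2, finrank_bot, add_zero, ← h1] at this
  exact this

/-- The action of `X` on an invariant subspace. -/
noncomputable def act (W : Submodule F[X] M) : Module.End F ↥(W.restrictScalars F) where
  toFun x := ⟨(X : F[X]) • (x : M), W.smul_mem _ x.2⟩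
  map_add' x y := Subtype.ext (smul_add _ _ _)
  map_smul' c x := Subtype.ext (smul_comm (X : F[X]) c (x : M))

theorem charpoly_sup {A B : Submodule F[X] M} (h : A ⊓ B = ⊥) :
    (act (A ⊔ B)).charpoly = (act A).charpoly * (act B).charpoly := by
  let e0 : (↥(A.restrictScalars F) × ↥(B.restrictScalars F)) →ₗ[F] ↥((A ⊔ B).restrictScalars F) :=
    LinearMap.coprod (Submodule.inclusion (fun x hx => show x ∈ A ⊔ B from Submodule.mem_sup_left hx))
      (Submodule.inclusion (fun x hx => show x ∈ A ⊔ B from Submodule.mem_sup_right hx))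
  have hval : ∀ x, ((e0 x : ↥((A ⊔ B).restrictScalars F)) : M) = (x.1 : M) + (x.2 : M) := fun x => rfl
  have hbij : Function.Bijective e0 := by
    constructor
    · rintro ⟨a, b⟩ ⟨a', b'⟩ he
      have he' : (a : M) + b = a' + b' := by rw [← hval (a, b), ← hval (a', b'), he]
      obtain ⟨h1, h2⟩ := eq_and_eq (A := B) (W₀ := A) h (a := ⟨(b : M), b.2⟩) (a' := ⟨(b' : M), b'.2⟩)
        (w := ⟨(a : M), a.2⟩) (w' := ⟨(a' : M), a'.2⟩) he'
      have h1' : (a : M) = a' := congrArg Subtype.val h1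
      have h2' : (b : M) = b' := congrArg Subtype.val h2
      exact Prod.ext (Subtype.ext h1') (Subtype.ext h2')
    · rintro ⟨x, hx⟩
      obtain ⟨a, ha, b, hb, rfl⟩ := Submodule.mem_sup.1 (hx : x ∈ A ⊔ B)
      exact ⟨(⟨a, ha⟩, ⟨b, hb⟩), rfl⟩
  let e := LinearEquiv.ofBijective e0 hbij
  rw [← LinearMap.charpoly_prodMap, ← LinearEquiv.charpoly_conj e ((act A).prodMap (act B))]
  congr 1
  refine LinearMap.ext fun x => ?_
  obtain ⟨y, rfl⟩ := e.surjective x
  rw [LinearEquiv.conj_apply_apply, LinearEquiv.symm_apply_apply]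
  refine Subtype.ext ?_
  show (X : F[X]) • (((e0 y) : ↥((A ⊔ B).restrictScalars F)) : M) = (e0 _ : M)
  rw [hval, hval, smul_add]
  rfl

/-- A cyclic simple piece. -/
structure IsPiece (g : F[X]) (A : Submodule F[X] M) : Prop where
  irr : Irreducible g
  monic : g.Monic
  gen : ∃ u : M, u ≠ 0 ∧ g • u = 0 ∧ A = Submodule.span F[X] {u}

theorem eq_zero_of_smul {g r : F[X]} (hg : Irreducible g) (hr : ¬ g ∣ r) {x : M}
    (h1 : g • x = 0) (h2 : r • x = 0) : x = 0 := by
  obtain ⟨a, b, hab⟩ := hg.coprime_iff_not_dvd.2 hr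
  rw [← one_smul F[X] x, ← hab, add_smul, mul_smul, mul_smul, h1, h2, smul_zero, smul_zero, add_zero]

namespace IsPiece

variable {g : F[X]} {A : Submodule F[X] M}

theorem smul_eq_zero (h : IsPiece g A) {x : M} (hx : x ∈ A) : g • x = 0 := by
  obtain ⟨u, hu, hgu, rfl⟩ := h.gen
  obtain ⟨r, rfl⟩ := Submodule.mem_span_singleton.1 hx
  rw [smul_comm, hgu, smul_zero]

theorem isAtom (h : IsPiece g A) : IsAtom A := by
  obtain ⟨u, hu, hgu, rfl⟩ := h.gen
  refine ⟨fun e => hu ((Submodule.span_singleton_eq_bot).1 e), fun B hB => ?_⟩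
  by_contra hne
  obtain ⟨x, hxB, hx0⟩ := Submodule.exists_mem_ne_zero_of_ne_bot hne
  obtain ⟨r, rfl⟩ := Submodule.mem_span_singleton.1 (hB.le hxB)
  have hr : ¬ g ∣ r := by
    rintro ⟨c, rfl⟩
    exact hx0 (by rw [mul_comm, mul_smul, hgu, smul_zero])
  obtain ⟨a, b, hab⟩ := h.irr.coprime_iff_not_dvd.2 hr
  refine hB.not_ge ((Submodule.span_singleton_le_iff_mem _ _).2 ?_)
  have : b • r • u = u := by
    conv_rhs => rw [← one_smul F[X] u, ← hab, add_smul, mul_smul, mul_smul, hgu, smul_zero, zero_add]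
  rw [← this]
  exact B.smul_mem b hxB

theorem exists_equiv (h : IsPiece g A) :
    ∃ e : (F[X] ⧸ Ideal.span {g}) ≃ₗ[F[X]] ↥A, True := by
  obtain ⟨u, hu, hgu, rfl⟩ := h.gen
  refine ⟨(Submodule.quotEquivOfEq _ _ ?_).trans ((Ideal.quotTorsionOfEquivSpanSingleton F[X] M u)), trivial⟩
  ext r
  rw [Ideal.mem_span_singleton, Ideal.mem_torsionOf_iff]
  exact ⟨fun ⟨c, hc⟩ => by rw [hc, mul_comm, mul_smul, hgu, smul_zero],
    fun hr => by_contra fun hn => hu (eq_zero_of_smul h.irr hn hgu hr)⟩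

theorem dim_eq (h : IsPiece g A) : dimF A = g.natDegree := by
  obtain ⟨e, -⟩ := h.exists_equiv
  rw [← finrank_quotient_span_eq_natDegree (f := g)]
  exact ((e.restrictScalars F).finrank_eq).symm

theorem charpoly_eq (h : IsPiece g A) : (act A).charpoly = g := by
  have hpow : ∀ (r : F[X]) (x : ↥(A.restrictScalars F)), ((aeval (act A) r) x : M) = r • (x : M) := by
    intro r
    induction r using Polynomial.induction_on' with
    | add a b ha hb => intro x; rw [map_add, LinearMap.add_apply, Submodule.coe_add, ha, hb, add_smul]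
    | monomial k c =>
      intro x
      rw [aeval_monomial, Module.End.mul_apply, Module.algebraMap_end_apply, Submodule.coe_smul]
      have hk : ∀ j : ℕ, (((act A) ^ j) x : M) = (X : F[X]) ^ j • (x : M) := by
        intro j
        induction j with
        | zero => simp
        | succ j ih =>
          rw [pow_succ', Module.End.mul_apply, pow_succ', mul_smul, ← ih]
          rfl
      rw [hk, ← C_mul_X_pow_eq_monomial, mul_smul, C_eq_algebraMap, algebraMap_smul]
  obtain ⟨u, hu, hgu, hA⟩ := h.gen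
  have hz : aeval (act A) g = 0 := LinearMap.ext fun x => Subtype.ext (by
    rw [hpow, h.smul_eq_zero x.2]; rfl)
  haveI : Nontrivial ↥(A.restrictScalars F) :=
    ⟨⟨⟨u, by rw [hA]; exact Submodule.mem_span_singleton_self u⟩, 0, fun e => hu (congrArg Subtype.val e)⟩⟩
  have hmin : minpoly F (act A) = g := (minpoly.eq_of_irreducible_of_monic h.irr hz h.monic).symm
  refine (Polynomial.eq_of_monic_of_dvd_of_natDegree_le h.monic (LinearMap.charpoly_monic _) ?_ ?_)
  · rw [← hmin]; exact LinearMap.minpoly_dvd_charpoly _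
  · rw [LinearMap.charpoly_natDegree, ← h.dim_eq]; rfl

theorem card_hom {g' : F[X]} {A' : Submodule F[X] M} (h' : IsPiece g' A') (h : IsPiece g A) :
    Nat.card (↥A' →ₗ[F[X]] ↥A) = if g' = g then Fintype.card F ^ g.natDegree else 1 := by
  obtain ⟨e', -⟩ := h'.exists_equiv
  obtain ⟨e, -⟩ := h.exists_equiv
  have key : (↥A' →ₗ[F[X]] ↥A) ≃ {a : ↥A // g' • a = 0} :=
    { toFun := fun φ => ⟨φ (e' (Submodule.Quotient.mk 1)), by
        rw [← map_smul, ← map_smul, ← Submodule.Quotient.mk_smul,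
          (Submodule.Quotient.mk_eq_zero _).2 (by simp [Ideal.mem_span_singleton]), map_zero, map_zero]⟩
      invFun := fun a => (Submodule.liftQ _ (LinearMap.toSpanSingleton F[X] ↥A a.1) (by
          intro r hr
          obtain ⟨c, rfl⟩ := Ideal.mem_span_singleton.1 hr
          rw [LinearMap.mem_ker, LinearMap.toSpanSingleton_apply, mul_comm, mul_smul, a.2, smul_zero])).comp
        e'.symm.toLinearMap
      left_inv := fun φ => by
        refine LinearMap.ext fun x => ?_
        obtain ⟨y, rfl⟩ := e'.surjective x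
        obtain ⟨r, rfl⟩ := Submodule.Quotient.mk_surjective _ y
        simp only [LinearMap.comp_apply, LinearEquiv.coe_coe, LinearEquiv.symm_apply_apply, Submodule.liftQ_apply,
          LinearMap.toSpanSingleton_apply]
        rw [← map_smul, ← map_smul, ← Submodule.Quotient.mk_smul, smul_eq_mul, mul_one]
      right_inv := fun a => Subtype.ext (by
        simp only [LinearMap.comp_apply, LinearEquiv.coe_coe, LinearEquiv.symm_apply_apply, Submodule.liftQ_apply,
          LinearMap.toSpanSingleton_apply, one_smul]) }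
  rw [Nat.card_congr key]
  split_ifs with hgg
  · subst hgg
    rw [Nat.card_congr (Equiv.subtypeUnivEquiv fun a : ↥A => Subtype.ext (h.smul_eq_zero a.2)), ← h.dim_eq, dimF,
      ← Nat.card_eq_fintype_card, ← Module.natCard_eq_pow_finrank]
    exact Nat.card_congr (Equiv.refl _)
  · haveI : Subsingleton {a : ↥A // g' • a = 0} := ⟨fun a b => by
      have hz : ∀ c : {a : ↥A // g' • a = 0}, (c.1 : M) = 0 := fun c =>
        eq_zero_of_smul h.irr (fun hd => hgg (eq_of_monic_of_associated h'.monic h.monic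
          (h.irr.associated_of_dvd h'.irr hd).symm)) (h.smul_eq_zero c.1.2) (congrArg Subtype.val c.2)
      exact Subtype.ext (Subtype.ext ((hz a).trans (hz b).symm))⟩
    exact Nat.card_of_subsingleton ⟨0, smul_zero _⟩

end IsPiece

/-- The multiplicity dimension of an irreducible polynomial. -/
noncomputable def kdim (g : F[X]) (W : Submodule F[X] M) : ℕ := dimF (W ⊓ Submodule.torsionBy F[X] M g)

theorem torsion_sup {A B : Submodule F[X] M} (h : A ⊓ B = ⊥) (g : F[X]) :
    (A ⊔ B) ⊓ Submodule.torsionBy F[X] M g =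
      (A ⊓ Submodule.torsionBy F[X] M g) ⊔ (B ⊓ Submodule.torsionBy F[X] M g) := by
  refine le_antisymm ?_ (sup_le (inf_le_inf_right _ le_sup_left) (inf_le_inf_right _ le_sup_right))
  rintro x ⟨hx, hgx⟩
  obtain ⟨a, ha, b, hb, rfl⟩ := Submodule.mem_sup.1 hx
  rw [SetLike.mem_coe, Submodule.mem_torsionBy_iff, smul_add] at hgx
  have h1 : g • a ∈ A ⊓ B := ⟨A.smul_mem g ha, by rw [eq_neg_of_add_eq_zero_left hgx]; exact B.neg_mem (B.smul_mem g hb)⟩
  rw [h, Submodule.mem_bot] at h1
  refine Submodule.add_mem_sup ⟨ha, by rwa [SetLike.mem_coe, Submodule.mem_torsionBy_iff]⟩ ⟨hb, ?_⟩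
  rw [h1, zero_add] at hgx
  rwa [SetLike.mem_coe, Submodule.mem_torsionBy_iff]

theorem kdim_sup {A B : Submodule F[X] M} (h : A ⊓ B = ⊥) (g : F[X]) :
    kdim g (A ⊔ B) = kdim g A + kdim g B := by
  rw [kdim, torsion_sup h, dimF_sup]
  · rfl
  · exact eq_bot_iff.2 (le_trans (inf_le_inf inf_le_left inf_le_left) h.le)

theorem kdim_piece {g g' : F[X]} {A : Submodule F[X] M} (h : IsPiece g A) (hg' : Irreducible g') (hm : g'.Monic) :
    kdim g' A = if g' = g then g.natDegree else 0 := by
  split_ifs with e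
  · subst e
    rw [kdim, inf_eq_left.2 (fun x hx => (Submodule.mem_torsionBy_iff _ _).2 (h.smul_eq_zero hx)), h.dim_eq]
  · rw [kdim, show A ⊓ Submodule.torsionBy F[X] M g' = ⊥ from eq_bot_iff.2 fun x hx =>
      (Submodule.mem_bot _).2 (eq_zero_of_smul h.irr (fun hd => e (eq_of_monic_of_associated hm h.monic
        (h.irr.associated_of_dvd hg' hd).symm)) (h.smul_eq_zero hx.1) ((Submodule.mem_torsionBy_iff _ _).1 hx.2)),
      dimF_bot]

/-- The value attached to one primary part. -/
def val (Q : ℕ) (d m : ℕ) : ℤ := (-1) ^ m * (Q : ℤ) ^ (d * m.choose 2)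

theorem val_succ (Q d m : ℕ) : val Q d (m + 1) = -((Q : ℤ) ^ (d * m)) * val Q d m := by
  rw [val, val, show (m + 1).choose 2 = m + m.choose 2 by rw [Nat.choose_succ_succ, Nat.choose_one_right],
    Nat.mul_add, pow_add, pow_succ]
  ring

theorem exists_piece {S : Multiset F[X]} (hS : ∀ g ∈ S, Irreducible g ∧ g.Monic) {W : Submodule F[X] M}
    (hW : W ≠ ⊥) (hann : ∀ x ∈ W, S.prod • x = 0) :
    ∃ g ∈ S, ∃ A, IsPiece g A ∧ A ≤ W := by
  obtain ⟨x, hxW, hx0⟩ := Submodule.exists_mem_ne_zero_of_ne_bot hW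
  have key : ∀ S : Multiset F[X], (∀ g ∈ S, Irreducible g ∧ g.Monic) → ∀ y ∈ W, y ≠ 0 → S.prod • y = 0 →
      ∃ g ∈ S, ∃ u ∈ W, u ≠ 0 ∧ g • u = 0 := by
    intro S
    induction S using Multiset.induction with
    | empty => intro _ y _ hy0 hy; rw [Multiset.prod_zero, one_smul] at hy; exact absurd hy hy0
    | cons a s ih =>
      intro hS y hyW hy0 hy
      by_cases hs : s.prod • y = 0
      · obtain ⟨g, hg, hu⟩ := ih (fun g hg => hS g (Multiset.mem_cons_of_mem hg)) y hyW hy0 hs
        exact ⟨g, Multiset.mem_cons_of_mem hg, hu⟩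
      · rw [Multiset.prod_cons, mul_smul] at hy
        exact ⟨a, Multiset.mem_cons_self a s, _, W.smul_mem _ hyW, hs, hy⟩
  obtain ⟨g, hg, u, huW, hu0, hgu⟩ := key S hS x hxW hx0 (hann x hxW)
  exact ⟨g, hg, _, ⟨(hS g hg).1, (hS g hg).2, u, hu0, hgu, rfl⟩, (Submodule.span_singleton_le_iff_mem _ _).2 huW⟩

/-- The characteristic polynomial of the whole module is that of a conjugate endomorphism. -/
theorem charpoly_top_eq {V : Type*} [AddCommGroup V] [Module F V] [FiniteDimensional F V] (e : V ≃ₗ[F] M)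
    (f : Module.End F V) (h : ∀ v, (X : F[X]) • e v = e (f v)) :
    (act (⊤ : Submodule F[X] M)).charpoly = f.charpoly := by
  let e' : V ≃ₗ[F] ↥((⊤ : Submodule F[X] M).restrictScalars F) :=
    LinearEquiv.ofBijective (e.toLinearMap.codRestrict ((⊤ : Submodule F[X] M).restrictScalars F) fun _ => trivial)
      ⟨fun a b hab => e.injective (congrArg Subtype.val hab), fun y =>
        ⟨e.symm y.1, Subtype.ext (e.apply_symm_apply y.1)⟩⟩
  rw [← LinearEquiv.charpoly_conj e' f]
  congr 1
  refine LinearMap.ext fun y => ?_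
  obtain ⟨v, rfl⟩ := e'.surjective y
  rw [LinearEquiv.conj_apply_apply, LinearEquiv.symm_apply_apply]
  exact Subtype.ext (h v)

variable [IsSemisimpleModule F[X] M]

/-- The structure of an invariant subspace. -/
theorem structure_of_le (S : Multiset F[X]) (hS : ∀ g ∈ S, Irreducible g ∧ g.Monic)
    (hann : ∀ x : M, S.prod • x = 0) : ∀ W : Submodule F[X] M,
    (∀ g ∈ S.toFinset, g.natDegree ∣ kdim g W) ∧
    (act W).charpoly = ∏ g ∈ S.toFinset, g ^ (kdim g W / g.natDegree) ∧
    (∀ g ∈ S.toFinset, ∀ A : Submodule F[X] M, IsPiece g A → Nat.card (↥W →ₗ[F[X]] ↥A) = Fintype.card F ^ kdim g W) ∧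
    zeta W = ∏ g ∈ S.toFinset, val (Fintype.card F) g.natDegree (kdim g W / g.natDegree) := by
  intro W
  induction W using WellFoundedLT.induction with
  | _ W ih =>
  by_cases hW : W = ⊥
  · subst hW
    have h0 : ∀ g : F[X], kdim g (⊥ : Submodule F[X] M) = 0 := fun g => by rw [kdim, bot_inf_eq, dimF_bot]
    simp only [h0, dvd_zero, implies_true, Nat.zero_div, pow_zero, prod_const_one, true_and, zeta_bot]
    refine ⟨?_, fun g _ A _ => ?_, ?_⟩
    · haveI : Subsingleton ↥((⊥ : Submodule F[X] M).restrictScalars F) :=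
        ⟨fun a b => Subtype.ext (((Submodule.mem_bot _).1 a.2).trans ((Submodule.mem_bot _).1 b.2).symm)⟩
      exact Polynomial.Monic.natDegree_eq_zero (LinearMap.charpoly_monic _) |>.1
        (by rw [LinearMap.charpoly_natDegree, Module.finrank_zero_of_subsingleton])
    · exact Nat.card_of_subsingleton 0
    · simp [val]
  obtain ⟨g, hg, A, hA, hAW⟩ := exists_piece hS hW (fun x _ => hann x)
  have hgS : g ∈ S.toFinset := Multiset.mem_toFinset.2 hg
  have hmem : ∀ h ∈ S.toFinset, Irreducible h ∧ h.Monic := fun h hh => hS h (Multiset.mem_toFinset.1 hh)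
  obtain ⟨C, hC⟩ := exists_isCompl A
  have hlt : ∀ U ∈ complIn A W, U < W := by
    rintro U ⟨h1, h2⟩
    refine lt_of_le_of_ne (h2 ▸ le_sup_left) fun e => hA.isAtom.1 ?_
    rw [← h1, e, inf_eq_right.2 hAW]
  have hk : ∀ U ∈ complIn A W, ∀ h ∈ S.toFinset,
      kdim h W = kdim h U + (if h = g then g.natDegree else 0) := by
    rintro U ⟨h1, h2⟩ h hh
    rw [← h2, kdim_sup h1, kdim_piece hA (hmem h hh).1 (hmem h hh).2]
  set W₀ := W ⊓ C with hW₀
  have hmem₀ : W₀ ∈ complIn A W := by
    refine ⟨eq_bot_iff.2 fun x hx => hC.disjoint.le_bot ⟨hx.2, hx.1.2⟩, ?_⟩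
    rw [hW₀, inf_comm W C, sup_comm, ← sup_inf_assoc_of_le C hAW, hC.sup_eq_top, top_inf_eq]
  obtain ⟨i1, i2, i3, -⟩ := ih W₀ (hlt _ hmem₀)
  have hdvd : ∀ h ∈ S.toFinset, h.natDegree ∣ kdim h W := by
    intro h hh
    rw [hk _ hmem₀ h hh]
    refine dvd_add (i1 h hh) ?_
    split_ifs with e
    · rw [e]
    · exact dvd_zero _
  have hm : ∀ U ∈ complIn A W, ∀ h ∈ S.toFinset,
      kdim h W / h.natDegree = kdim h U / h.natDegree + if h = g then 1 else 0 := by
    intro U hU h hh
    rw [hk U hU h hh, Nat.add_div_of_dvd_right ((ih U (hlt U hU)).1 h hh)]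
    split_ifs with e
    · rw [e, Nat.div_self hA.irr.natDegree_pos]
    · rw [Nat.zero_div]
  have hsplit : W₀ ⊔ A = W := hmem₀.2
  refine ⟨hdvd, ?_, ?_, ?_⟩
  · rw [← hsplit, charpoly_sup hmem₀.1, i2, hA.charpoly_eq, hsplit]
    rw [show ∏ h ∈ S.toFinset, h ^ (kdim h W / h.natDegree) = ∏ h ∈ S.toFinset,
      h ^ (kdim h W₀ / h.natDegree) * h ^ (if h = g then 1 else 0) from
        prod_congr rfl (fun h hh => by rw [hm W₀ hmem₀ h hh, pow_add]), prod_mul_distrib]
    congr 1
    rw [prod_congr rfl (fun h _ => show h ^ (if h = g then 1 else 0) = if h = g then g else 1 by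
      split_ifs with e <;> simp [e]), prod_ite_eq' _ g, if_pos hgS]
  · intro h hh B hB
    let e0 : (↥W₀ × ↥A) →ₗ[F[X]] ↥W :=
      LinearMap.coprod (Submodule.inclusion inf_le_left) (Submodule.inclusion hAW)
    have hbij : Function.Bijective e0 := by
      constructor
      · rintro ⟨a, b⟩ ⟨a', b'⟩ he
        obtain ⟨rfl, rfl⟩ := eq_and_eq hmem₀.1 (show (a : M) + b = a' + b' from congrArg Subtype.val he)
        rfl
      · rintro ⟨x, hx⟩
        obtain ⟨a, ha, b, hb, rfl⟩ := Submodule.mem_sup.1 (hsplit.ge hx)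
        exact ⟨(⟨a, ha⟩, ⟨b, hb⟩), rfl⟩
    rw [Nat.card_congr (LinearEquiv.congrLeft ↥B F[X] (LinearEquiv.ofBijective e0 hbij).symm).toEquiv,
      Nat.card_congr (LinearMap.coprodEquiv F[X]).symm.toEquiv, Nat.card_prod, i3 h hh B hB,
      hA.card_hom hB, hk _ hmem₀ h hh, pow_add]
    congr 1
    by_cases e : h = g
    · subst e; rw [if_pos rfl, if_pos rfl]
    · rw [if_neg (Ne.symm e), if_neg e, pow_zero]
  · rw [zeta_eq_sum_compl hA.isAtom hAW]
    have hval : ∀ U ∈ (Set.toFinite (complIn A W)).toFinset, zeta U = zeta W₀ := by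
      intro U hU
      rw [Set.Finite.mem_toFinset] at hU
      rw [(ih U (hlt U hU)).2.2.2, (ih W₀ (hlt _ hmem₀)).2.2.2]
      refine prod_congr rfl fun h hh => ?_
      have h1 := hm U hU h hh
      rw [hm W₀ hmem₀ h hh] at h1
      rw [show kdim h U / h.natDegree = kdim h W₀ / h.natDegree by omega]
    rw [sum_congr rfl hval, sum_const, ← Nat.card_eq_card_finite_toFinset, card_complIn hmem₀.1 hsplit,
      i3 g hgS A hA, (ih W₀ (hlt _ hmem₀)).2.2.2, nsmul_eq_mul, ← mul_prod_erase _ _ hgS, ← mul_prod_erase _ _ hgS]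
    have he : ∀ h ∈ S.toFinset.erase g, kdim h W / h.natDegree = kdim h W₀ / h.natDegree := by
      intro h hh
      rw [hm W₀ hmem₀ h (mem_of_mem_erase hh), if_neg (ne_of_mem_erase hh), add_zero]
    rw [show ∏ h ∈ S.toFinset.erase g, val (Fintype.card F) h.natDegree (kdim h W / h.natDegree) =
      ∏ h ∈ S.toFinset.erase g, val (Fintype.card F) h.natDegree (kdim h W₀ / h.natDegree) from
        prod_congr rfl (fun h hh => by rw [he h hh]), hm W₀ hmem₀ g hgS, if_pos rfl, val_succ,
      Nat.mul_div_cancel' (i1 g hgS), Nat.cast_pow]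
    ring

end Cfsg.Agent.GLFlag.SSZeta
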