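import Mathlib

/-!
The permutations with `κ i ≤ i + 1` correspond to compositions.
-/

set_option autoImplicit false
set_option linter.unusedSectionVars false

namespace Cfsg.Agent.GLFlag.SteinbergComb

open Finset
open scoped Classical

variable {n : ℕ}

/-- The parts attached to a permutation. -/
def parts (κ : Equiv.Perm (Fin n)) (i : Fin n) : ℕ := i.val + 1 - (κ i).val

/-- The partial sums. -/
def psum (κ : Equiv.Perm (Fin n)) (j : Fin (n + 1)) : ℕ :=
  ∑ k ∈ univ.filter (fun k : Fin n => k.val < j.val), parts κ k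

/-- The interior cuts. -/
def cuts (κ : Equiv.Perm (Fin n)) : Finset ℕ := (univ.image (psum κ)).filter (fun d => 0 < d ∧ d < n)

/-- Admissible permutations. -/
def Adm (κ : Equiv.Perm (Fin n)) : Prop := ∀ i, (κ i).val ≤ i.val + 1

/-- The alternating sum. -/
noncomputable def altSum (n : ℕ) (f : Finset ℕ → ℤ) : ℤ :=
  ∑ κ : Equiv.Perm (Fin n), if Adm κ then (Equiv.Perm.sign κ : ℤ) * f (cuts κ) else 0

theorem psum_zero (κ : Equiv.Perm (Fin n)) : psum κ 0 = 0 := by simp [psum]

theorem psum_last {κ : Equiv.Perm (Fin n)} (h : Adm κ) : psum κ (Fin.last n) = n := by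
  rw [psum, filter_true_of_mem fun k _ => k.isLt]
  simp only [parts]
  rw [sum_tsub_distrib _ fun i _ => h i, Equiv.sum_comp κ (fun i : Fin n => i.val), sum_add_distrib]
  simp

theorem psum_succ (κ : Equiv.Perm (Fin (n + 1))) (j : Fin (n + 1)) :
    psum κ j.succ = parts κ 0 + ∑ k ∈ univ.filter (fun k : Fin n => k.val < j.val), parts κ k.succ := by
  rw [psum, sum_filter, Fin.sum_univ_succ, sum_filter]
  simp

theorem psum_eq_zero_iff {κ : Equiv.Perm (Fin n)} (h : Adm κ) (j : Fin (n + 1)) :
    psum κ j = 0 ↔ ∀ k : Fin n, k.val < j.val → (κ k).val ≠ 0 := by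
  rw [psum]
  constructor
  · intro hs k hk hk0
    have := (sum_eq_zero_iff.1 hs) k (mem_filter.2 ⟨mem_univ _, hk⟩)
    rw [parts, hk0] at this
    omega
  · intro hne
    have hsum : ∑ k ∈ univ.filter (fun k : Fin n => k.val < j.val), (κ k).val =
        ∑ k ∈ univ.filter (fun k : Fin n => k.val < j.val), (k.val + 1) := by
      rw [← sum_image (s := univ.filter (fun k : Fin n => k.val < j.val)) (g := fun k => (κ k).val)
          (f := fun v => v) (fun a _ b _ e => κ.injective (Fin.ext e)),
        ← sum_image (s := univ.filter (fun k : Fin n => k.val < j.val)) (g := fun k : Fin n => k.val + 1)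
          (f := fun v => v) (fun a _ b _ e => Fin.ext (by simpa using e))]
      refine sum_congr (eq_of_subset_of_card_le ?_ (le_of_eq ?_)) fun _ _ => rfl
      · intro v hv
        obtain ⟨k, hk, rfl⟩ := mem_image.1 hv
        have hk' := (mem_filter.1 hk).2
        have h1 := h k
        have h2 := hne k hk'
        refine mem_image.2 ⟨⟨(κ k).val - 1, by omega⟩, mem_filter.2 ⟨mem_univ _, ?_⟩, ?_⟩
        · show (κ k).val - 1 < j.val; omega
        · show (κ k).val - 1 + 1 = (κ k).val; omega
      · rw [card_image_of_injective _ (fun a b e => Fin.ext (by simpa using e)),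
          card_image_of_injective _ (fun a b e => κ.injective (Fin.ext e))]
    have := sum_tsub_distrib (univ.filter (fun k : Fin n => k.val < j.val))
      (f := fun k : Fin n => k.val + 1) (g := fun k => (κ k).val) (fun k _ => h k)
    simp only [parts]
    rw [this, hsum, Nat.sub_self]

/-- The permutation with given first value. -/
abbrev ext (p : Fin (n + 1)) (e : Equiv.Perm (Fin n)) : Equiv.Perm (Fin (n + 1)) :=
  Equiv.Perm.decomposeFin.symm (p, e)

theorem ext_zero (p : Fin (n + 1)) (e : Equiv.Perm (Fin n)) : ext p e 0 = p :=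
  Equiv.Perm.decomposeFin_symm_apply_zero p e

theorem ext_succ (p : Fin (n + 1)) (e : Equiv.Perm (Fin n)) (x : Fin n) :
    ext p e x.succ = Equiv.swap 0 p (e x).succ :=
  Equiv.Perm.decomposeFin_symm_apply_succ e p x

theorem ext_zero_succ (e : Equiv.Perm (Fin n)) (x : Fin n) : (ext 0 e x.succ).val = (e x).val + 1 := by
  rw [ext_succ, Equiv.swap_self]; rfl

theorem ext_one_succ (e : Equiv.Perm (Fin (n + 1))) (x : Fin (n + 1)) :
    (ext 1 e x.succ).val = if (e x).val = 0 then 0 else (e x).val + 1 := by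
  rw [ext_succ]
  split_ifs with h
  · have : (e x).succ = 1 := Fin.ext (by simp [h])
    rw [this, Equiv.swap_apply_right]; rfl
  · rw [Equiv.swap_apply_of_ne_of_ne (Fin.succ_ne_zero _)
      (fun e' => h (by have := congrArg Fin.val e'; simpa using this))]
    rfl

theorem adm_ext_zero (e : Equiv.Perm (Fin n)) : Adm (ext 0 e) ↔ Adm e := by
  constructor
  · intro h x
    have := h x.succ
    rw [ext_zero_succ, Fin.val_succ] at this
    omega
  · intro h i
    cases i using Fin.cases with
    | zero => rw [ext_zero]; simp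
    | succ x => rw [ext_zero_succ, Fin.val_succ]; have := h x; omega

theorem adm_ext_one (e : Equiv.Perm (Fin (n + 1))) : Adm (ext 1 e) ↔ Adm e := by
  constructor
  · intro h x
    have := h x.succ
    rw [ext_one_succ, Fin.val_succ] at this
    split_ifs at this <;> omega
  · intro h i
    cases i using Fin.cases with
    | zero => rw [ext_zero]; simp
    | succ x => rw [ext_one_succ, Fin.val_succ]; have := h x; split_ifs <;> omega

theorem le_one_of_adm {p : Fin (n + 2)} {e : Equiv.Perm (Fin (n + 1))} (h : Adm (ext p e)) : p = 0 ∨ p = 1 := by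
  have := h 0
  rw [ext_zero, Fin.val_zero] at this
  rcases Nat.lt_or_ge p.val 1 with h0 | h0
  · exact Or.inl (Fin.ext (show p.val = 0 by omega))
  · exact Or.inr (Fin.ext (by simp; omega))

theorem psum_ext_zero (e : Equiv.Perm (Fin n)) (j : Fin (n + 1)) : psum (ext 0 e) j.succ = psum e j + 1 := by
  rw [psum_succ, add_comm, psum]
  congr 1
  exact sum_congr rfl fun k _ => by rw [parts, parts, ext_zero_succ, Fin.val_succ]; omega

theorem psum_ext_one {e : Equiv.Perm (Fin (n + 1))} (h : Adm e) (j : Fin (n + 2)) :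
    psum (ext 1 e) j.succ = if psum e j = 0 then 0 else psum e j + 1 := by
  have e0 : parts (ext 1 e) 0 = 0 := by rw [parts, ext_zero]; simp
  rw [psum_succ, e0, zero_add]
  split_ifs with h0
  · refine sum_eq_zero fun k hk => ?_
    have h1 := (sum_eq_zero_iff.1 h0) k hk
    have h2 := (psum_eq_zero_iff h j).1 h0 k (mem_filter.1 hk).2
    rw [parts] at h1 ⊢
    rw [ext_one_succ, Fin.val_succ, if_neg h2]
    omega
  · obtain ⟨k, hk, hk0⟩ : ∃ k : Fin (n + 1), k.val < j.val ∧ (e k).val = 0 := by
      by_contra hne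
      push Not at hne
      exact h0 ((psum_eq_zero_iff h j).2 hne)
    have hmem : k ∈ univ.filter (fun k : Fin (n + 1) => k.val < j.val) := mem_filter.2 ⟨mem_univ _, hk⟩
    rw [psum, ← add_sum_erase _ _ hmem, ← add_sum_erase _ _ hmem]
    have hrest : ∑ x ∈ (univ.filter (fun k : Fin (n + 1) => k.val < j.val)).erase k, parts (ext 1 e) x.succ =
        ∑ x ∈ (univ.filter (fun k : Fin (n + 1) => k.val < j.val)).erase k, parts e x := by
      refine sum_congr rfl fun x hx => ?_
      have hx0 : (e x).val ≠ 0 := fun e' =>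
        (mem_erase.1 hx).1 (e.injective (Fin.ext (by rw [e', hk0])))
      rw [parts, parts, ext_one_succ, Fin.val_succ, if_neg hx0]
      omega
    rw [hrest, parts, parts, ext_one_succ, Fin.val_succ, if_pos hk0, hk0]
    omega

theorem mem_cuts {κ : Equiv.Perm (Fin n)} {d : ℕ} :
    d ∈ cuts κ ↔ (∃ j, psum κ j = d) ∧ 0 < d ∧ d < n := by simp [cuts]

theorem cuts_ext_zero (e : Equiv.Perm (Fin (n + 1))) (h : Adm e) :
    cuts (ext 0 e) = insert 1 ((cuts e).image (· + 1)) := by
  ext d
  simp only [mem_cuts, mem_insert, mem_image]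
  constructor
  · rintro ⟨⟨j, rfl⟩, h1, h2⟩
    cases j using Fin.cases with
    | zero => rw [psum_zero] at h1; omega
    | succ j =>
      rw [psum_ext_zero] at h1 h2 ⊢
      rcases Nat.eq_zero_or_pos (psum e j) with h0 | h0
      · left; omega
      · exact Or.inr ⟨psum e j, ⟨⟨j, rfl⟩, h0, by omega⟩, rfl⟩
  · rintro (rfl | ⟨_, ⟨⟨j, rfl⟩, h1, h2⟩, rfl⟩)
    · exact ⟨⟨(0 : Fin (n + 2)).succ, by rw [psum_ext_zero, psum_zero]⟩, one_pos, by omega⟩
    · exact ⟨⟨j.succ, psum_ext_zero e j⟩, by omega, by omega⟩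

theorem cuts_ext_one (e : Equiv.Perm (Fin (n + 1))) (h : Adm e) :
    cuts (ext 1 e) = (cuts e).image (· + 1) := by
  ext d
  simp only [mem_cuts, mem_image]
  constructor
  · rintro ⟨⟨j, rfl⟩, h1, h2⟩
    cases j using Fin.cases with
    | zero => rw [psum_zero] at h1; omega
    | succ j =>
      rw [psum_ext_one h] at h1 h2 ⊢
      split_ifs at h1 h2 ⊢ with h0
      · omega
      · exact ⟨psum e j, ⟨⟨j, rfl⟩, Nat.pos_of_ne_zero h0, by omega⟩, rfl⟩
  · rintro ⟨_, ⟨⟨j, rfl⟩, h1, h2⟩, rfl⟩
    exact ⟨⟨j.succ, by rw [psum_ext_one h, if_neg h1.ne']⟩, by omega, by omega⟩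

theorem altSum_succ (f : Finset ℕ → ℤ) : altSum (n + 2) f =
    altSum (n + 1) (fun D => f (insert 1 (D.image (· + 1)))) - altSum (n + 1) (fun D => f (D.image (· + 1))) := by
  rw [altSum, ← Equiv.sum_comp Equiv.Perm.decomposeFin.symm, Fintype.sum_prod_type,
    sum_eq_add (0 : Fin (n + 2)) 1 (by simp)]
  · rw [altSum, altSum, sub_eq_add_neg, ← sum_neg_distrib]
    congr 1 <;> refine sum_congr rfl fun e _ => ?_
    · by_cases h : Adm e
      · rw [if_pos h, if_pos ((adm_ext_zero e).2 h), cuts_ext_zero e h, Equiv.Perm.decomposeFin.symm_sign, if_pos rfl, one_mul]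
      · rw [if_neg h, if_neg (fun h' => h ((adm_ext_zero e).1 h'))]
    · by_cases h : Adm e
      · rw [if_pos h, if_pos ((adm_ext_one e).2 h), cuts_ext_one e h, Equiv.Perm.decomposeFin.symm_sign, if_neg (by simp)]
        simp
      · rw [if_neg h, if_neg (fun h' => h ((adm_ext_one e).1 h')), neg_zero]
  · rintro p - ⟨hp0, hp1⟩
    refine sum_eq_zero fun e _ => if_neg fun h => ?_
    rcases le_one_of_adm h with e0 | e0
    · exact hp0 e0
    · exact hp1 e0
  · simp
  · simp

/-- The alternating sum over admissible permutations is the sum over cut sets. -/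
theorem altSum_eq : ∀ (n : ℕ) (f : Finset ℕ → ℤ),
    altSum (n + 1) f = ∑ D ∈ (Ioo 0 (n + 1)).powerset, (-1 : ℤ) ^ (n + D.card) * f D := by
  intro n
  induction n with
  | zero =>
    intro f
    have hc : cuts (1 : Equiv.Perm (Fin 1)) = ∅ := by
      ext d; simp only [mem_cuts, notMem_empty, iff_false]; omega
    rw [altSum, Fintype.sum_eq_single (1 : Equiv.Perm (Fin 1)) (fun κ hκ => absurd (Equiv.ext fun x => Subsingleton.elim _ _) hκ)]
    rw [if_pos (show Adm (1 : Equiv.Perm (Fin 1)) from fun i => Nat.le_succ _), hc, show Ioo 0 (0 + 1) = (∅ : Finset ℕ) by decide]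
    simp
  | succ n ih =>
    intro f
    rw [altSum_succ, ih, ih]
    have hI : Ioo 0 (n + 1 + 1) = insert 1 ((Ioo 0 (n + 1)).image (· + 1)) := by
      ext d
      simp only [mem_Ioo, mem_insert, mem_image]
      constructor
      · intro h
        rcases Nat.lt_or_ge d 2 with h2 | h2
        · left; omega
        · exact Or.inr ⟨d - 1, ⟨by omega, by omega⟩, by omega⟩
      · rintro (rfl | ⟨c, hc, rfl⟩) <;> omega
    have hnot : ∀ D ∈ (Ioo 0 (n + 1)).powerset, 1 ∉ D.image (· + 1) := by
      intro D hD h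
      obtain ⟨c, hc, hc'⟩ := mem_image.1 h
      have := (mem_Ioo.1 (mem_powerset.1 hD hc)).1
      omega
    have himg : ((Ioo 0 (n + 1)).image (· + 1)).powerset =
        (Ioo 0 (n + 1)).powerset.image (fun D => D.image (· + 1)) := by
      ext D
      simp only [mem_powerset, mem_image, subset_image_iff]
    have hinj : Function.Injective (fun D : Finset ℕ => D.image (· + 1)) :=
      image_injective (add_left_injective 1)
    rw [hI, sum_powerset_insert (by
        intro h
        obtain ⟨c, hc, hc'⟩ := mem_image.1 h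
        have := (mem_Ioo.1 hc).1
        omega), himg, sum_image hinj.injOn, sum_image hinj.injOn, sub_eq_add_neg, add_comm, ← sum_neg_distrib]
    congr 1
    · refine sum_congr rfl fun D _ => ?_
      rw [card_image_of_injective _ (add_left_injective 1)]
      ring
    · refine sum_congr rfl fun D hD => ?_
      rw [card_insert_of_notMem (hnot D hD), card_image_of_injective _ (add_left_injective 1)]
      ring

end Cfsg.Agent.GLFlag.SteinbergComb
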