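import Cfsg.Agent.GLFlag.SemisimpleZeta
import Cfsg.Agent.GLFlag.SteinbergComb
import Cfsg.Agent.GLFlag.Labels

/-!
The values of the alternating flag sum of the all-ones partition at elements of order prime to the characteristic.
-/

set_option autoImplicit false
set_option linter.unusedSectionVars false

namespace Cfsg.Agent.GLFlag.SteinbergValue

open Polynomial Finset SteinbergComb SSZeta
open scoped MatrixGroups

variable {n : ℕ} {F : Type*} [Field F]

/-- The standard subspace. -/
def E (d : ℕ) : Submodule F (Fin n → F) where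
  carrier := {v | ∀ i : Fin n, d ≤ i.val → v i = 0}
  add_mem' := fun {a b} ha hb i hi => by rw [Pi.add_apply, ha i hi, hb i hi, add_zero]
  zero_mem' := fun _ _ => rfl
  smul_mem' := fun c a ha i hi => by rw [Pi.smul_apply, ha i hi, smul_zero]

theorem mem_E {d : ℕ} {v : Fin n → F} : v ∈ E (F := F) (n := n) d ↔ ∀ i : Fin n, d ≤ i.val → v i = 0 := Iff.rfl

theorem E_mono {d e : ℕ} (h : d ≤ e) : E (F := F) (n := n) d ≤ E e :=
  fun _ hv i hi => hv i (h.trans hi)

theorem finrank_E {d : ℕ} (h : d ≤ n) : Module.finrank F (E (F := F) (n := n) d) = d := by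
  let e : ↥(E (F := F) (n := n) d) ≃ₗ[F] (Fin d → F) :=
    { toFun := fun v j => v.1 (Fin.castLE h j)
      invFun := fun w => ⟨fun i => if hi : i.val < d then w ⟨i.val, hi⟩ else 0,
        fun i hi => dif_neg (not_lt.2 hi)⟩
      left_inv := fun v => Subtype.ext (funext fun i => by
        by_cases hi : i.val < d
        · simp only [dif_pos hi]; rfl
        · simp only [dif_neg hi]; exact (v.2 i (not_lt.1 hi)).symm)
      right_inv := fun w => funext fun j => by simp
      map_add' := fun _ _ => rfl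
      map_smul' := fun _ _ => rfl }
  rw [e.finrank_eq, Module.finrank_fin_fun]

/-- The action on subspaces. -/
noncomputable def act (g : GL (Fin n) F) (U : Submodule F (Fin n → F)) : Submodule F (Fin n → F) :=
  U.map (Matrix.toLin' (g : Matrix (Fin n) (Fin n) F))

theorem act_mul (g h : GL (Fin n) F) (U : Submodule F (Fin n → F)) : act (g * h) U = act g (act h U) := by
  rw [act, act, act, Units.val_mul, Matrix.toLin'_mul, Submodule.map_comp]

theorem act_one (U : Submodule F (Fin n → F)) : act 1 U = U := by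
  rw [act, Units.val_one, Matrix.toLin'_one, Submodule.map_id]

theorem act_inj (g : GL (Fin n) F) {U V : Submodule F (Fin n → F)} (h : act g U = act g V) : U = V := by
  rw [← act_one U, ← act_one V, ← inv_mul_cancel g, act_mul, act_mul, h]

theorem finrank_act (g : GL (Fin n) F) (U : Submodule F (Fin n → F)) :
    Module.finrank F (act g U) = Module.finrank F U := by
  refine (Submodule.equivMapOfInjective _ ?_ U).finrank_eq.symm
  intro a b h
  have := congrArg (Matrix.toLin' ((g⁻¹ : GL (Fin n) F) : Matrix (Fin n) (Fin n) F)) h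
  rwa [← Matrix.toLin'_mul_apply, ← Matrix.toLin'_mul_apply, ← Units.val_mul, inv_mul_cancel, Units.val_one,
    Matrix.toLin'_one] at this

theorem blockEnd_eq (κ : Equiv.Perm (Fin n)) (k : Fin n) :
    blockStart (parts κ) k + parts κ k = psum κ k.succ := by
  rw [← sum_Iic_eq, psum]
  refine sum_congr (Finset.ext fun x => ?_) fun _ _ => rfl
  rw [mem_filter, mem_filter, Fin.le_def, Fin.val_succ, Nat.lt_succ_iff]

theorem compLabel_lt_iff {κ : Equiv.Perm (Fin n)} (hκ : Adm κ) (i j : Fin n) :
    Cfsg.compLabel (parts κ) j < Cfsg.compLabel (parts κ) i ↔ ∃ d ∈ cuts κ, j.val < d ∧ d ≤ i.val := by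
  have hsum : ∑ k, parts κ k = n := by
    have := psum_last hκ
    rwa [psum, filter_true_of_mem fun k _ => k.isLt] at this
  constructor
  · intro h
    refine ⟨psum κ (⟨Cfsg.compLabel (parts κ) j, compLabel_lt hsum j⟩ : Fin n).succ, ?_⟩
    have h1 := (lt_compLabel_iff (parts κ) i ⟨_, compLabel_lt hsum j⟩).1 h
    have h2 := mt (lt_compLabel_iff (parts κ) j ⟨_, compLabel_lt hsum j⟩).2 (lt_irrefl (Cfsg.compLabel (parts κ) j))
    rw [blockEnd_eq] at h1 h2
    refine ⟨mem_cuts.2 ⟨⟨_, rfl⟩, ?_, ?_⟩, not_le.1 h2, h1⟩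
    · have := not_le.1 h2; omega
    · have := i.isLt; omega
  · rintro ⟨d, hd, hjd, hdi⟩
    obtain ⟨⟨k, rfl⟩, h0, -⟩ := mem_cuts.1 hd
    cases n with
    | zero => exact i.elim0
    | succ m =>
      cases k using Fin.cases with
      | zero => rw [psum_zero] at h0; omega
      | succ k =>
        have hi := (lt_compLabel_iff (parts κ) i k).2 (by rw [blockEnd_eq]; exact hdi)
        have hj := mt (lt_compLabel_iff (parts κ) j k).1 (by rw [blockEnd_eq]; exact not_le.2 hjd)
        omega

/-- The parabolic attached to an admissible permutation. -/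
abbrev par (κ : Equiv.Perm (Fin n)) : Subgroup (GL (Fin n) F) := Cfsg.parabolicGL n F (parts κ)

theorem mem_par {κ : Equiv.Perm (Fin n)} (hκ : Adm κ) (g : GL (Fin n) F) :
    g ∈ par κ ↔ ∀ d ∈ cuts κ, act g (E d) = E d := by
  constructor
  · intro hg d hd
    refine Submodule.eq_of_le_of_finrank_eq ?_ (finrank_act g _)
    rintro _ ⟨v, hv, rfl⟩ i hi
    rw [Matrix.toLin'_apply]
    show ∑ j, (g : Matrix (Fin n) (Fin n) F) i j * v j = 0
    refine sum_eq_zero fun j _ => ?_
    by_cases hj : d ≤ j.val
    · rw [hv j hj, mul_zero]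
    · rw [show (g : Matrix (Fin n) (Fin n) F) i j = 0 from
        hg ((compLabel_lt_iff hκ i j).2 ⟨d, hd, not_le.1 hj, hi⟩), zero_mul]
  · intro h i j hij
    obtain ⟨d, hd, hjd, hdi⟩ := (compLabel_lt_iff hκ i j).1 hij
    have hv : Pi.single j (1 : F) ∈ E (F := F) (n := n) d := fun k hk =>
      Pi.single_eq_of_ne (fun e => by rw [e] at hk; omega) _
    have := ((h d hd).le (Submodule.mem_map_of_mem hv)) i hdi
    rwa [Matrix.toLin'_apply, Matrix.mulVec_single_one] at this

theorem exists_adapted {V : Type*} [AddCommGroup V] [Module F V] [FiniteDimensional F V] (N : ℕ)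
    (B : ℕ → Submodule F V) (hB : ∀ k < N, k < Module.finrank F (B k)) :
    ∀ k ≤ N, ∃ v : Fin k → V, LinearIndependent F v ∧ ∀ i : Fin k, v i ∈ B i.val := by
  intro k
  induction k with
  | zero => exact fun _ => ⟨Fin.elim0, linearIndependent_empty_type, fun i => i.elim0⟩
  | succ k ih =>
    intro hk
    obtain ⟨v, hv, hmem⟩ := ih (by omega)
    have hne : ¬ B k ≤ Submodule.span F (Set.range v) := fun h => by
      have := Submodule.finrank_mono h
      rw [finrank_span_eq_card hv, Fintype.card_fin] at this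
      have := hB k (by omega)
      omega
    obtain ⟨w, hw, hw'⟩ := SetLike.not_le_iff_exists.1 hne
    refine ⟨Fin.snoc v w, hv.finSnoc hw', fun i => ?_⟩
    cases i using Fin.lastCases with
    | last => rw [Fin.snoc_last]; exact hw
    | cast i => rw [Fin.snoc_castSucc]; exact hmem i

/-- The invariant flags with prescribed dimensions. -/
def XFlag (x : GL (Fin n) F) (D : Finset ℕ) :=
  {f : (d : ℕ) → d ∈ D → Submodule F (Fin n → F) //
    (∀ d hd, Module.finrank F (f d hd) = d ∧ act x (f d hd) = f d hd) ∧ ∀ d hd e he, d ≤ e → f d hd ≤ f e he}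

theorem exists_of_flag {x : GL (Fin n) F} {D : Finset ℕ} (hD : ∀ d ∈ D, d ≤ n) (f : XFlag x D) :
    ∃ g : GL (Fin n) F, ∀ d hd, act g (E d) = f.1 d hd := by
  let B : ℕ → Submodule F (Fin n → F) := fun k => ⨅ (d) (hd : d ∈ D) (_ : k < d), f.1 d hd
  have hB : ∀ k < n, k < Module.finrank F (B k) := by
    intro k hk
    by_cases hex : (D.filter fun d => k < d).Nonempty
    · obtain ⟨hmD, hkm⟩ := mem_filter.1 ((D.filter fun d => k < d).min'_mem hex)
      refine lt_of_lt_of_le ((f.2.1 _ hmD).1.symm ▸ hkm) (Submodule.finrank_mono ?_)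
      exact le_iInf fun d => le_iInf fun hd => le_iInf fun hkd =>
        f.2.2 _ _ _ _ (Finset.min'_le _ d (mem_filter.2 ⟨hd, hkd⟩))
    · have : B k = ⊤ := eq_top_iff.2 (le_iInf fun d => le_iInf fun hd => le_iInf fun hkd =>
        absurd ⟨d, mem_filter.2 ⟨hd, hkd⟩⟩ hex)
      rw [this, finrank_top, Module.finrank_fin_fun]
      exact hk
  obtain ⟨v, hv, hmem⟩ := exists_adapted n B hB n le_rfl
  have hu : IsUnit (Matrix.of fun i j => v j i : Matrix (Fin n) (Fin n) F) :=
    Matrix.linearIndependent_cols_iff_isUnit.1 hv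
  refine ⟨hu.unit, fun d hd => Submodule.eq_of_le_of_finrank_eq ?_ ?_⟩
  · rintro _ ⟨w, hw, rfl⟩
    rw [Matrix.toLin'_apply, IsUnit.unit_spec, Matrix.mulVec_eq_sum]
    refine Submodule.sum_mem _ fun j _ => ?_
    by_cases hj : j.val < d
    · rw [op_smul_eq_smul]
      refine Submodule.smul_mem _ _ ?_
      exact (iInf_le_of_le d (iInf_le_of_le hd (iInf_le _ hj)) : B j.val ≤ f.1 d hd) (hmem j)
    · rw [hw j (not_lt.1 hj)]; simp
  · rw [finrank_act, finrank_E (hD d hd), (f.2.1 d hd).1]

theorem card_fixed {κ : Equiv.Perm (Fin n)} (hκ : Adm κ) (x : GL (Fin n) F) :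
    Nat.card (MulAction.fixedBy (GL (Fin n) F ⧸ par (F := F) κ) x) = Nat.card (XFlag x (cuts κ)) := by
  have hD : ∀ d ∈ cuts κ, d ≤ n := fun d hd => (mem_cuts.1 hd).2.2.le
  have hmk : ∀ g h : GL (Fin n) F, (QuotientGroup.mk g : GL (Fin n) F ⧸ par (F := F) κ) = QuotientGroup.mk h ↔
      ∀ d ∈ cuts κ, act g (E d) = act h (E d) := by
    intro g h
    rw [QuotientGroup.eq, mem_par hκ]
    refine forall₂_congr fun d _ => ⟨fun e => ?_, fun e => ?_⟩
    · conv_lhs => rw [← e]
      rw [← act_mul, mul_inv_cancel_left]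
    · rw [act_mul, ← e, ← act_mul, inv_mul_cancel, act_one]
  have hfix : ∀ g : GL (Fin n) F, x • (QuotientGroup.mk g : GL (Fin n) F ⧸ par (F := F) κ) = QuotientGroup.mk g ↔
      ∀ d ∈ cuts κ, act x (act g (E d)) = act g (E d) := by
    intro g
    simp only [← act_mul]
    exact hmk (x * g) g
  refine Nat.card_congr (Equiv.ofBijective (fun q => (⟨fun d _ => act q.1.out (E d), ?_, ?_⟩ : XFlag x (cuts κ))) ⟨?_, ?_⟩)
  · intro d hd
    refine ⟨by rw [finrank_act, finrank_E (hD d hd)], ?_⟩
    have hq := q.2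
    rw [MulAction.mem_fixedBy] at hq
    have hq' : x • (QuotientGroup.mk q.1.out : GL (Fin n) F ⧸ par (F := F) κ) = QuotientGroup.mk q.1.out := by
      rw [QuotientGroup.out_eq']; exact hq
    exact (hfix _).1 hq' d hd
  · exact fun d _ e _ h => Submodule.map_mono (E_mono h)
  · intro q q' h
    refine Subtype.ext ?_
    rw [← QuotientGroup.out_eq' q.1, ← QuotientGroup.out_eq' q'.1]
    exact (hmk _ _).2 fun d hd => congrFun (congrFun (congrArg Subtype.val h) d) hd
  · intro f
    obtain ⟨g, hg⟩ := exists_of_flag hD f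
    refine ⟨⟨QuotientGroup.mk g, ?_⟩, ?_⟩
    · rw [MulAction.mem_fixedBy, hfix]
      intro d hd
      rw [hg d hd]; exact (f.2.1 d hd).2
    · refine Subtype.ext (funext fun d => funext fun hd => ?_)
      rw [← hg d hd]
      exact (hmk _ _).1 (QuotientGroup.out_eq' _) d hd

/-- The endomorphism of an element. -/
noncomputable abbrev endo (x : GL (Fin n) F) : Module.End F (Fin n → F) :=
  Matrix.toLinAlgEquiv' (x : Matrix (Fin n) (Fin n) F)

/-- The polynomial module of an element. -/
abbrev Mx (x : GL (Fin n) F) := Module.AEval' (endo x)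

instance finite_Mx [Finite F] (x : GL (Fin n) F) : Finite (Mx x) :=
  Finite.of_equiv (Fin n → F) (Module.AEval'.of (endo x)).toEquiv

theorem dimF_top [Fintype F] (x : GL (Fin n) F) : dimF (⊤ : Submodule F[X] (Mx x)) = n := by
  rw [dimF, Submodule.restrictScalars_top, finrank_top, ← (Module.AEval'.of (endo x)).finrank_eq,
    Module.finrank_fin_fun]

theorem card_xflag [Fintype F] (x : GL (Fin n) F) {D : Finset ℕ} (hD : ∀ d ∈ D, d < n) :
    Nat.card (XFlag x D) = Nat.card (Chains.Flags (R := F[X]) (M := Mx x) dimF D ⊤) := by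
  have hinv : ∀ U : Submodule F (Fin n → F), act x U = U →
      U ∈ (Algebra.lsmul F F (Fin n → F) (endo x)).invtSubmodule := fun U hU v hv =>
    hU.le ⟨v, hv, rfl⟩
  let S := Module.AEval.mapSubmodule F (Fin n → F) (endo x)
  have hdim : ∀ (U : Submodule F (Fin n → F)) (h), dimF (S ⟨U, h⟩) = Module.finrank F U := fun U h =>
    (Module.AEval.equiv_mapSubmodule (endo x) U h).finrank_eq.symm
  have hback : ∀ W : Submodule F[X] (Mx x), act x (S.symm W).1 = (S.symm W).1 := by
    intro W
    refine Submodule.eq_of_le_of_finrank_eq ?_ (finrank_act x _)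
    rintro _ ⟨v, hv, rfl⟩
    exact (S.symm W).2 hv
  refine Nat.card_congr
    { toFun := fun f => ⟨fun d hd => S ⟨f.1 d hd, hinv _ (f.2.1 d hd).2⟩, fun d hd => ⟨?_, ?_⟩,
        fun d hd e he h => S.monotone (f.2.2 d hd e he h)⟩
      invFun := fun f => ⟨fun d hd => (S.symm (f.1 d hd)).1, fun d hd => ⟨?_, hback _⟩,
        fun d hd e he h => S.symm.monotone (f.2.2 d hd e he h)⟩
      left_inv := fun f => Subtype.ext (funext fun d => funext fun hd => by simp)
      right_inv := fun f => Subtype.ext (funext fun d => funext fun hd => by simp) }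
  · rw [hdim, (f.2.1 d hd).1]
  · refine lt_top_iff_ne_top.2 fun e => (hD d hd).ne ?_
    rw [← dimF_top x, ← e, hdim, (f.2.1 d hd).1]
  · rw [← hdim _ (S.symm (f.1 d hd)).2, Subtype.coe_eta, S.apply_symm_apply, (f.2.1 d hd).1]

theorem semisimple [Fintype F] (p : ℕ) [Fact p.Prime] [CharP F p] (x : GL (Fin n) F)
    (hx : (orderOf x).Coprime p) : IsSemisimpleModule F[X] (Mx x) := by
  haveI : Finite (GL (Fin n) F) := inferInstance
  refine Module.End.isSemisimple_of_squarefree_aeval_eq_zero (p := X ^ orderOf x - 1) ?_ ?_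
  · refine (X_pow_sub_one_separable_iff.2 ?_).squarefree
    rw [Ne, CharP.cast_eq_zero_iff F p]
    exact ((Fact.out : p.Prime).coprime_iff_not_dvd).1 hx.symm
  · rw [map_sub, map_pow, aeval_X, map_one, ← map_pow, ← Units.val_pow_eq_pow_val, pow_orderOf_eq_one,
      Units.val_one, map_one, sub_self]

theorem altSum_card [Fintype F] (x : GL (Fin n) F) :
    Cfsg.unipotentCharacterGL n F (fun _ => 1) x =
      (((-1 : ℤ) ^ n * Chains.zeta (⊤ : Submodule F[X] (Mx x)) : ℤ) : ℂ) := by
  classical
  have h1 : Cfsg.unipotentCharacterGL n F (fun _ => 1) x =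
      ((altSum n fun D => (Nat.card (Chains.Flags (R := F[X]) (M := Mx x) dimF D ⊤) : ℤ) : ℤ) : ℂ) := by
    rw [altSum, Cfsg.unipotentCharacterGL, Int.cast_sum]
    refine sum_congr rfl fun κ _ => ?_
    have hAdm : (∀ i : Fin n, (κ i).val ≤ 1 + i.val) ↔ Adm κ := forall_congr' fun i => by rw [add_comm]
    by_cases h : Adm κ
    · rw [if_pos (hAdm.2 h), if_pos h, Int.cast_mul, Int.cast_natCast, Cfsg.fixedPointCharacter,
        ← card_xflag x (fun d hd => (mem_cuts.1 hd).2.2), ← card_fixed h x]
      have hpar : (Cfsg.parabolicGL n F fun i => 1 + i.val - (κ i).val) = par (F := F) κ := by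
        congr 1
        funext i
        rw [parts, add_comm]
      rw [hpar]
    · rw [if_neg (fun h' => h (hAdm.1 h')), if_neg h, Int.cast_zero]
  rw [h1]
  congr 1
  cases n with
  | zero =>
    have h0 : (⊤ : Submodule F[X] (Mx x)) = ⊥ := by
      by_contra hne
      have := dimF_strictMono (F := F) (M := Mx x) (bot_lt_iff_ne_bot.2 hne)
      rw [dimF_bot, dimF_top] at this
      omega
    have hc : cuts (1 : Equiv.Perm (Fin 0)) = ∅ := by
      ext d; simp only [mem_cuts, notMem_empty, iff_false]; omega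
    rw [h0, Chains.zeta_bot, altSum, Fintype.sum_unique,
      show (default : Equiv.Perm (Fin 0)) = 1 from Subsingleton.elim _ _,
      if_pos (show Adm (1 : Equiv.Perm (Fin 0)) from fun i => i.elim0), hc,
      Chains.card_flags_empty dimF dimF_strictMono dimF_bot]
    simp
  | succ m =>
    have hne : (⊤ : Submodule F[X] (Mx x)) ≠ ⊥ := fun e => by
      have := dimF_top x
      rw [e, dimF_bot] at this
      omega
    rw [altSum_eq, Chains.sum_flags_eq_zeta dimF dimF_strictMono dimF_bot ⊤ hne, dimF_top, mul_sum]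
    refine sum_congr rfl fun D _ => ?_
    ring

theorem count_factors [DecidableEq F] (T : Finset F[X]) (hT : ∀ g ∈ T, Irreducible g ∧ g.Monic) (k : F[X] → ℕ) :
    UniqueFactorizationMonoid.normalizedFactors (∏ g ∈ T, g ^ k g) = ∑ g ∈ T, Multiset.replicate (k g) g := by
  classical
  induction T using Finset.induction_on with
  | empty => simp
  | insert a s ha ih =>
    obtain ⟨ha1, ha2⟩ := hT a (mem_insert_self a s)
    have hs : ∀ g ∈ s, Irreducible g ∧ g.Monic := fun g hg => hT g (mem_insert_of_mem hg)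
    rw [prod_insert ha, sum_insert ha, UniqueFactorizationMonoid.normalizedFactors_mul (pow_ne_zero _ ha1.ne_zero)
      (prod_ne_zero_iff.2 fun g hg => pow_ne_zero _ (hs g hg).1.ne_zero), ih hs,
      UniqueFactorizationMonoid.normalizedFactors_pow, UniqueFactorizationMonoid.normalizedFactors_irreducible ha1,
      ha2.normalize_eq_self, Multiset.nsmul_singleton]

set_option maxHeartbeats 400000 in
theorem value [Fintype F] [DecidableEq F] (p : ℕ) [Fact p.Prime] [CharP F p] (x : GL (Fin n) F)
    (hx : (orderOf x).Coprime p) :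
    Cfsg.unipotentCharacterGL n F (fun _ => 1) x =
      ∏ f ∈ (UniqueFactorizationMonoid.normalizedFactors (x : Matrix (Fin n) (Fin n) F).charpoly).toFinset,
        (-1 : ℂ) ^ ((f.natDegree - 1) * (UniqueFactorizationMonoid.normalizedFactors (x : Matrix (Fin n) (Fin n) F).charpoly).count f) *
          (Fintype.card F : ℂ) ^ (f.natDegree * (UniqueFactorizationMonoid.normalizedFactors (x : Matrix (Fin n) (Fin n) F).charpoly).count f *
            ((UniqueFactorizationMonoid.normalizedFactors (x : Matrix (Fin n) (Fin n) F).charpoly).count f - 1) / 2) := by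
  haveI := semisimple p x hx
  set χ := (x : Matrix (Fin n) (Fin n) F).charpoly with hχ
  have hmonic : χ.Monic := Matrix.charpoly_monic _
  set S := UniqueFactorizationMonoid.normalizedFactors χ with hS'
  have hS : ∀ g ∈ S, Irreducible g ∧ g.Monic := fun g hg => by
    have h1 := UniqueFactorizationMonoid.irreducible_of_normalized_factor g hg
    refine ⟨h1, ?_⟩
    rw [← UniqueFactorizationMonoid.normalize_normalized_factor g hg]
    exact Polynomial.monic_normalize h1.ne_zero
  have hprod : S.prod = χ := by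
    rw [hS', UniqueFactorizationMonoid.prod_normalizedFactors_eq hmonic.ne_zero, hmonic.normalize_eq_self]
  have hann : ∀ y : Mx x, S.prod • y = 0 := by
    intro y
    obtain ⟨v, rfl⟩ := (Module.AEval'.of (endo x)).surjective y
    rw [hprod, ← Module.AEval.of_aeval_smul, aeval_algHom_apply, Matrix.aeval_self_charpoly, map_zero, zero_smul,
      map_zero]
  obtain ⟨-, h2, -, h4⟩ := structure_of_le S hS hann (⊤ : Submodule F[X] (Mx x))
  rw [charpoly_top_eq (Module.AEval'.of (endo x)) (endo x) (Module.AEval'.X_smul_of (endo x))] at h2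
  rw [show (endo x).charpoly = χ from Matrix.charpoly_toLin' _] at h2
  generalize hk : (fun g : F[X] => kdim g (⊤ : Submodule F[X] (Mx x)) / g.natDegree) = k
  have hk' : ∀ g : F[X], kdim g (⊤ : Submodule F[X] (Mx x)) / g.natDegree = k g := fun g => congrFun hk g
  simp only [hk'] at h2 h4
  have e : ∀ T : Finset F[X], T = S.toFinset → ∀ inst : DecidableEq F[X], @Multiset.toFinset _ inst S = T :=
    fun T hT inst => hT ▸ Finset.ext fun g => by simp only [Multiset.mem_toFinset]
  rw [e _ rfl] at h2 h4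
  have hmem : ∀ g ∈ S.toFinset, Irreducible g ∧ g.Monic := fun g hg => hS g (Multiset.mem_toFinset.1 hg)
  have hcount : ∀ g ∈ S.toFinset, S.count g = k g := by
    intro g hg
    conv_lhs => rw [hS', h2]
    rw [count_factors _ (fun g hg => hS g (Multiset.mem_toFinset.1 hg)), Multiset.count_sum']
    rw [sum_eq_single g]
    · exact Multiset.count_replicate_self g _
    · intro b _ hb
      rw [Multiset.count_replicate, if_neg hb]
    · intro h
      exact absurd (Multiset.mem_toFinset.2 (Multiset.mem_toFinset.1 hg)) (fun h' => h (by convert h'))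
  have hn : n = ∑ g ∈ S.toFinset, g.natDegree * S.count g := by
    have h5 : χ.natDegree = n := by rw [hχ, Matrix.charpoly_natDegree_eq_dim, Fintype.card_fin]
    rw [h2, natDegree_prod_of_monic _ _ (fun g hg => (hS g (Multiset.mem_toFinset.1 hg)).2.pow _)] at h5
    rw [← h5]
    refine sum_congr (by ext; simp) fun g hg => ?_
    rw [natDegree_pow, hcount g (by convert hg), mul_comm]
  rw [altSum_card, h4, hn]
  push_cast
  rw [← prod_pow_eq_pow_sum, ← prod_mul_distrib]
  refine prod_congr (by ext; simp) fun g hg => ?_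
  have hg' : g ∈ S := Multiset.mem_toFinset.1 hg
  rw [← hcount g (by simpa using hg'), SSZeta.val]
  obtain ⟨d, hd⟩ : ∃ d, g.natDegree = d + 1 := ⟨g.natDegree - 1, by
    have := (hS g hg').1.natDegree_pos; omega⟩
  push_cast
  rw [← mul_assoc, ← pow_add, hd, Nat.add_sub_cancel, Nat.choose_two_right,
    ← Nat.mul_div_assoc _ (Nat.even_mul_pred_self _).two_dvd, ← mul_assoc]
  congr 1
  rw [show (d + 1) * S.count g + S.count g = d * S.count g + 2 * S.count g by ring, pow_add,
    (even_two_mul _).neg_one_pow, mul_one]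

end Cfsg.Agent.GLFlag.SteinbergValue
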