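import Cfsg.Agent.GLFlag.UnipotentInner
import Cfsg.Agent.GLFlag.ParabolicOrder

/-! Degrees of the alternating sums of flag characters. -/

set_option autoImplicit false

namespace Cfsg.Agent.GLFlag

open scoped MatrixGroups
open Matrix

variable {n : ℕ}

theorem qInt_sub_add (q m s : ℕ) (h : s ≤ m) : q ^ s * qInt q (m - s) + qInt q s = qInt q m := by
  unfold qInt
  conv_rhs => rw [show m = s + (m - s) by omega, Finset.sum_range_add]
  rw [Finset.mul_sum, add_comm]
  simp [pow_add]

/-- The falling q-factorial, vanishing when `m < j`. -/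
def qFalling (q m j : ℕ) : ℕ := ∏ s ∈ Finset.range j, qInt q (m - s)

theorem qFalling_eq_zero {q m j : ℕ} (h : m < j) : qFalling q m j = 0 :=
  Finset.prod_eq_zero (Finset.mem_range.2 h) (by simp [qInt])

theorem qFact_eq_falling (q m : ℕ) : ∀ j ≤ m, qFact q m = qFact q (m - j) * qFalling q m j := by
  intro j hj
  induction j with
  | zero => simp [qFalling]
  | succ j ih =>
    rw [ih (by omega), show m - j = (m - (j + 1)) + 1 by omega, qFalling, qFalling,
      Finset.prod_range_succ, qFact, Finset.prod_range_succ, ← qFact,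
      show m - (j + 1) + 1 = m - j by omega]
    ring

theorem cast_falling_mul_pow (q m j : ℕ) :
    (qFalling q m j : ℂ) * (q : ℂ) ^ (j.choose 2) =
      ∏ s ∈ Finset.range j, ((qInt q m : ℂ) - (qInt q s : ℂ)) := by
  rcases Nat.lt_or_ge m j with h | h
  · rw [qFalling_eq_zero h, Finset.prod_eq_zero (Finset.mem_range.2 h) (sub_self _)]
    simp
  · rw [qFalling, show j.choose 2 = ∑ s ∈ Finset.range j, s by
      rw [Nat.choose_two_right, Finset.sum_range_id], ← Finset.prod_pow_eq_pow_sum, Nat.cast_prod,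
      ← Finset.prod_mul_distrib]
    refine Finset.prod_congr rfl fun s hs => ?_
    have e := congrArg (fun z : ℕ => (z : ℂ)) (qInt_sub_add q m s (by
      have := Finset.mem_range.1 hs; omega))
    push_cast at e
    rw [← e]; ring

theorem sum_choose_two (n : ℕ) : ∑ j ∈ Finset.range n, j.choose 2 = n * (n - 1) * (n - 2) / 6 := by
  have h : ∀ m : ℕ, ∑ j ∈ Finset.range m, j.choose 2 = m.choose 3 := by
    intro m
    induction m with
    | zero => simp
    | succ m ih => rw [Finset.sum_range_succ, ih, Nat.choose_succ_succ' m 2, add_comm]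
  rw [h, Nat.choose_eq_descFactorial_div_factorial]
  simp [Nat.descFactorial, Nat.factorial]
  ring_nf

variable {F : Type*} [Field F] [Fintype F]

theorem unipotent_one_mul (ν : Fin n → ℕ) (hsum : ∑ i, ν i = n) :
    Cfsg.unipotentCharacterGL n F ν 1 * (∏ i, (qFact (Fintype.card F) (shiftExp ν i) : ℂ)) =
      (qFact (Fintype.card F) n : ℂ) *
        (Matrix.of fun i j : Fin n => (qFalling (Fintype.card F) (shiftExp ν i) j : ℂ)).det := by
  set q := Fintype.card F
  rw [← Matrix.det_transpose, Matrix.det_apply', Finset.mul_sum, unipotent_eq_sum, Finset.sum_apply,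
    Finset.sum_mul]
  refine Finset.sum_congr rfl fun κ _ => ?_
  simp only [Pi.smul_apply, smul_eq_mul, Matrix.transpose_apply, Matrix.of_apply]
  by_cases hκ : ∀ i, (κ i).val ≤ shiftExp ν i
  · have h1 : Cfsg.fixedPointCharacter (Cfsg.parabolicGL n F (altComp ν κ)) 1 =
        (Nat.card (GL (Fin n) F ⧸ Cfsg.parabolicGL n F (altComp ν κ)) : ℂ) := by
      simp [Cfsg.fixedPointCharacter, MulAction.fixedBy]
    have h2 := congrArg (fun z : ℕ => (z : ℂ))
      (card_quotient_parabolic (F := F) (μ := altComp ν κ) (sum_shiftExp_sub hsum hκ))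
    push_cast at h2
    rw [altSign, if_pos hκ, h1, ← h2, Finset.prod_congr rfl fun i _ =>
      show (qFact q (shiftExp ν i) : ℂ) = (qFact q (altComp ν κ i) : ℂ) *
        (qFalling q (shiftExp ν i) (κ i).val : ℂ) by
        rw [← Nat.cast_mul, qFact_eq_falling q _ _ (hκ i), altComp], Finset.prod_mul_distrib]
    ring
  · rw [altSign, if_neg hκ]
    push Not at hκ
    obtain ⟨i, hi⟩ := hκ
    rw [Finset.prod_eq_zero (f := fun i => (qFalling q (shiftExp ν i) (κ i).val : ℂ))
      (Finset.mem_univ i) (by rw [qFalling_eq_zero hi]; simp)]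
    simp

theorem unipotent_degree (ν : Fin n → ℕ) (hsum : ∑ i, ν i = n) :
    Cfsg.unipotentCharacterGL n F ν 1 * (Fintype.card F : ℂ) ^ (n * (n - 1) * (n - 2) / 6) *
        (∏ i, (qFact (Fintype.card F) (shiftExp ν i) : ℂ)) =
      (qFact (Fintype.card F) n : ℂ) * ∏ i : Fin n, ∏ j ∈ Finset.Ioi i,
        ((qInt (Fintype.card F) (shiftExp ν j) : ℂ) - (qInt (Fintype.card F) (shiftExp ν i) : ℂ)) := by
  set q := Fintype.card F
  rw [← Matrix.det_vandermonde, Matrix.det_eval_matrixOfPolynomials_eq_det_vandermonde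
    (fun i => (qInt q (shiftExp ν i) : ℂ))
    (fun j => ∏ s ∈ Finset.range j.val, (Polynomial.X - Polynomial.C (qInt q s : ℂ)))
    (fun j => by rw [Polynomial.natDegree_finsetProd_X_sub_C_eq_card, Finset.card_range])
    (fun j => Polynomial.monic_prod_X_sub_C _ _)]
  have hM : (Matrix.of fun (i j : Fin n) => Polynomial.eval (qInt q (shiftExp ν i) : ℂ)
      (∏ s ∈ Finset.range j.val, (Polynomial.X - Polynomial.C (qInt q s : ℂ)))) =
      Matrix.of fun i j : Fin n => (q : ℂ) ^ (j.val.choose 2) *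
        (Matrix.of fun i j : Fin n => (qFalling q (shiftExp ν i) j : ℂ)) i j := by
    refine Matrix.ext fun i j => ?_
    simp only [Matrix.of_apply, Polynomial.eval_prod, Polynomial.eval_sub, Polynomial.eval_X,
      Polynomial.eval_C]
    rw [← cast_falling_mul_pow, mul_comm]
  rw [hM, Matrix.det_mul_row, Finset.prod_pow_eq_pow_sum, Fin.sum_univ_eq_sum_range
    (fun j => j.choose 2), sum_choose_two, mul_left_comm, ← unipotent_one_mul ν hsum]
  ring

theorem qInt_strictMono {q : ℕ} (hq : 0 < q) : StrictMono (qInt q) :=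
  strictMono_nat_of_lt_succ fun r => by
    rw [qInt, qInt, Finset.sum_range_succ]
    exact Nat.lt_add_of_pos_right (pow_pos hq r)

theorem unipotent_one_pos (ν : Fin n → ℕ) (hm : Monotone ν) (hsum : ∑ i, ν i = n) :
    ∃ d : ℝ, 0 < d ∧ Cfsg.unipotentCharacterGL n F ν 1 = (d : ℂ) := by
  set q := Fintype.card F with hq
  have hq0 : 0 < q := Fintype.card_pos
  have h := unipotent_degree (F := F) ν hsum
  rw [← hq] at h
  set A : ℝ := (q : ℝ) ^ (n * (n - 1) * (n - 2) / 6) * ∏ i, (qFact q (shiftExp ν i) : ℝ) with hA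
  set B : ℝ := (qFact q n : ℝ) * ∏ i : Fin n, ∏ j ∈ Finset.Ioi i,
    ((qInt q (shiftExp ν j) : ℝ) - (qInt q (shiftExp ν i) : ℝ)) with hB
  have hApos : 0 < A := mul_pos (pow_pos (by exact_mod_cast hq0) _)
    (Finset.prod_pos fun i _ => by exact_mod_cast qFact_pos _)
  have hBpos : 0 < B := mul_pos (by exact_mod_cast qFact_pos _)
    (Finset.prod_pos fun i _ => Finset.prod_pos fun j hj => sub_pos.2 (by
      exact_mod_cast qInt_strictMono hq0 (shiftExp_strictMono hm (Finset.mem_Ioi.1 hj))))
  refine ⟨B / A, div_pos hBpos hApos, ?_⟩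
  rw [Complex.ofReal_div, eq_div_iff (by exact_mod_cast hApos.ne')]
  rw [hA, hB]
  push_cast
  rw [← h]
  ring

end Cfsg.Agent.GLFlag
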