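import Cfsg.Agent.GLFlag.DoubleCosets
import Cfsg.Agent.GLFlag.Jacobi
import Cfsg.Prelude.Def_Characters

/-! Inner products of the alternating sums of flag characters. -/

set_option autoImplicit false

namespace Cfsg.Agent.GLFlag

open scoped MatrixGroups ComplexConjugate

variable {n : ℕ} {F : Type*} [Field F]

/-- The shifted exponents of a partition. -/
def shiftExp (ν : Fin n → ℕ) : Fin n → ℕ := fun i => ν i + i.val

theorem shiftExp_strictMono {ν : Fin n → ℕ} (h : Monotone ν) : StrictMono (shiftExp ν) :=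
  fun _ _ hab => Nat.add_lt_add_of_le_of_lt (h hab.le) hab

theorem shiftExp_injective : Function.Injective (shiftExp (n := n)) := fun ν ν' e =>
  funext fun i => by have := congrFun e i; simp [shiftExp] at this; exact this

theorem sum_shiftExp_sub {ν : Fin n → ℕ} (hsum : ∑ i, ν i = n) {κ : Equiv.Perm (Fin n)}
    (h : ∀ i, (κ i).val ≤ shiftExp ν i) : ∑ i, (shiftExp ν i - (κ i).val) = n := by
  rw [Finset.sum_tsub_distrib _ (fun i _ => h i), Equiv.sum_comp κ (fun i => i.val)]
  simp [shiftExp, Finset.sum_add_distrib, hsum]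

/-- The coefficient of a term of the alternating sum. -/
def altSign (ν : Fin n → ℕ) (κ : Equiv.Perm (Fin n)) : ℤ :=
  if ∀ i, (κ i).val ≤ shiftExp ν i then (Equiv.Perm.sign κ : ℤ) else 0

/-- The composition of a term of the alternating sum. -/
def altComp (ν : Fin n → ℕ) (κ : Equiv.Perm (Fin n)) : Fin n → ℕ :=
  fun i => shiftExp ν i - (κ i).val

theorem unipotent_eq_sum (ν : Fin n → ℕ) :
    Cfsg.unipotentCharacterGL n F ν = ∑ κ : Equiv.Perm (Fin n),
      (altSign ν κ : ℂ) • Cfsg.fixedPointCharacter (Cfsg.parabolicGL n F (altComp ν κ)) := by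
  funext g
  simp only [Cfsg.unipotentCharacterGL, Finset.sum_apply, Pi.smul_apply, smul_eq_mul]
  refine Finset.sum_congr rfl fun κ _ => ?_
  unfold altSign altComp shiftExp
  by_cases h : ∀ i, (κ i).val ≤ ν i + i.val
  · rw [if_pos h, if_pos h]
  · rw [if_neg h, if_neg h]; simp

theorem classInner_sum_sum {G : Type*} [Group G] [Fintype G] {ι κ : Type*} [Fintype ι] [Fintype κ]
    (a : ι → ℂ) (b : κ → ℂ) (f : ι → G → ℂ) (f' : κ → G → ℂ) :
    Cfsg.classInner (∑ i, a i • f i) (∑ j, b j • f' j) =
      ∑ i, ∑ j, a i * conj (b j) * Cfsg.classInner (f i) (f' j) := by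
  calc Cfsg.classInner (∑ i, a i • f i) (∑ j, b j • f' j)
      = (Nat.card G : ℂ)⁻¹ * ∑ g, ∑ i, ∑ j, a i * conj (b j) * (f i g * conj (f' j g)) := by
        simp only [Cfsg.classInner, Finset.sum_apply, Pi.smul_apply, smul_eq_mul, map_sum, map_mul]
        congr 1
        refine Finset.sum_congr rfl fun g _ => ?_
        rw [Finset.sum_mul_sum]
        exact Finset.sum_congr rfl fun i _ => Finset.sum_congr rfl fun j _ => by ring
    _ = _ := by
        rw [Finset.sum_comm, Finset.mul_sum]
        refine Finset.sum_congr rfl fun i _ => ?_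
        rw [Finset.sum_comm, Finset.mul_sum]
        refine Finset.sum_congr rfl fun j _ => ?_
        simp only [Cfsg.classInner]
        rw [← Finset.mul_sum, mul_left_comm]

theorem classInner_flag [hG : Fintype (GL (Fin n) F)] [Fintype F] {α β : Fin n → ℕ}
    (hα : ∑ i, α i = n) (hβ : ∑ i, β i = n) :
    Cfsg.classInner (Cfsg.fixedPointCharacter (Cfsg.parabolicGL n F α))
        (Cfsg.fixedPointCharacter (Cfsg.parabolicGL n F β)) =
      (Nat.card (Contingency α β) : ℂ) := by
  classical
  have key := sum_gl_flag_mul (F := F) hα hβ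
  have hconj : ∀ g, conj (Cfsg.fixedPointCharacter (Cfsg.parabolicGL n F β) g) =
      Cfsg.fixedPointCharacter (Cfsg.parabolicGL n F β) g := fun g => by
    simp [Cfsg.fixedPointCharacter]
  simp only [Cfsg.classInner, hconj]
  have key' : ∑ g ∈ @Finset.univ (GL (Fin n) F) hG,
      Cfsg.fixedPointCharacter (Cfsg.parabolicGL n F α) g *
        Cfsg.fixedPointCharacter (Cfsg.parabolicGL n F β) g =
      (Nat.card (GL (Fin n) F) : ℂ) * Nat.card (Contingency α β) := by
    convert key
  rw [key', inv_mul_cancel_left₀ (by simp)]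

theorem classInner_unipotent [Fintype (GL (Fin n) F)] [Fintype F] {ν ν' : Fin n → ℕ}
    (hm : Monotone ν) (hs : ∑ i, ν i = n) (hm' : Monotone ν') (hs' : ∑ i, ν' i = n) :
    Cfsg.classInner (Cfsg.unipotentCharacterGL n F ν) (Cfsg.unipotentCharacterGL n F ν') =
      if ν = ν' then 1 else 0 := by
  classical
  have h := alternating_sum_contingency (shiftExp_strictMono hm) (shiftExp_strictMono hm')
  rw [if_congr (shiftExp_injective.eq_iff) rfl rfl] at h
  have h' := congrArg (fun z : ℤ => (z : ℂ)) h
  rw [unipotent_eq_sum, unipotent_eq_sum, classInner_sum_sum]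
  refine Eq.trans ?_ (h'.trans (by split_ifs <;> simp))
  rw [Int.cast_sum]
  refine Finset.sum_congr rfl fun κ _ => ?_
  by_cases hκ : ∀ i, (κ i).val ≤ shiftExp ν i
  · rw [if_pos hκ, Finset.mul_sum, Int.cast_sum]
    refine Finset.sum_congr rfl fun κ' _ => ?_
    by_cases hκ' : ∀ i, (κ' i).val ≤ shiftExp ν' i
    · rw [altSign, altSign, if_pos hκ, if_pos hκ', if_pos hκ']
      unfold altComp
      rw [classInner_flag (sum_shiftExp_sub hs hκ) (sum_shiftExp_sub hs' hκ')]
      push_cast
      simp only [map_intCast]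
      ring
    · rw [if_neg hκ', show altSign ν' κ' = 0 from if_neg hκ']
      simp
  · rw [if_neg hκ, show altSign ν κ = 0 from if_neg hκ]
    simp

end Cfsg.Agent.GLFlag
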