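import Cfsg.Agent.GLFlag.UnipotentDegree
import Cfsg.Agent.Lib.CharCore.Basic
import Cfsg.Agent.Lib.CharInd.Char

/-! Virtual characters of norm one and positive degree are irreducible. -/

set_option autoImplicit false

namespace Cfsg.Agent.GLFlag

open scoped MatrixGroups

theorem isCharacter_fixedPointCharacter {G : Type*} [Group G] [Fintype G] (H : Subgroup G) :
    Cfsg.IsCharacter G (Cfsg.fixedPointCharacter H) := by
  have h := CharInd.isCharacter_indFun H (θ := fun _ => (1 : ℂ)) CharCore.isCharacter_one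
  convert h using 1
  funext g
  rw [CharInd.indFun_one_eq_fixedBy]
  rfl

theorem isIrr_of_norm_one {G : Type*} [Group G] [Fintype G] {ι : Type*} [Fintype ι]
    (z : ι → ℤ) (f : ι → G → ℂ) (hf : ∀ i, Cfsg.IsCharacter G (f i)) (χ : G → ℂ)
    (hχ : χ = ∑ i, (z i : ℂ) • f i) (h1 : Cfsg.classInner χ χ = 1)
    (hpos : ∃ d : ℝ, 0 < d ∧ χ 1 = (d : ℂ)) : Cfsg.IsIrrCharacter G χ := by
  classical
  choose m hm using fun i => CharCore.IsCharacter.exists_sum (hf i)
  set c : Cfsg.IrrCharacter G → ℤ := fun ψ => ∑ i, z i * (m i ψ : ℤ) with hc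
  have e : χ = ∑ ψ, (c ψ : ℂ) • (ψ : G → ℂ) := by
    rw [hχ]
    simp only [hm, Finset.smul_sum, smul_smul, hc, Int.cast_sum, Int.cast_mul, Int.cast_natCast,
      Finset.sum_smul]
    exact Finset.sum_comm
  rw [e, CharCore.classInner_sum_sum] at h1
  simp only [map_intCast] at h1
  have h2 : ∑ ψ, c ψ * c ψ = 1 := by exact_mod_cast h1
  obtain ⟨ψ, -, hψ⟩ := Finset.exists_ne_zero_of_sum_ne_zero (h2.trans_ne one_ne_zero)
  have h3 := Finset.add_sum_erase Finset.univ (fun ψ => c ψ * c ψ) (Finset.mem_univ ψ)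
  have h4 : 0 ≤ ∑ φ ∈ Finset.univ.erase ψ, c φ * c φ :=
    Finset.sum_nonneg fun φ _ => mul_self_nonneg _
  have h5 : c ψ * c ψ = 1 := by
    have : 0 < c ψ * c ψ := lt_of_le_of_ne (mul_self_nonneg _) (Ne.symm hψ)
    omega
  have h6 : ∑ φ ∈ Finset.univ.erase ψ, c φ * c φ = 0 := by omega
  have hrest : ∀ φ, φ ≠ ψ → c φ = 0 := fun φ hφ => by
    have := (Finset.sum_eq_zero_iff_of_nonneg (fun x _ => mul_self_nonneg (c x))).1 h6 φ
      (by simp [hφ])
    exact mul_self_eq_zero.1 this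
  rw [Finset.sum_eq_single ψ (fun φ _ hφ => by simp [hrest φ hφ]) (by simp)] at e
  obtain ⟨d, hd, hd1⟩ := hpos
  obtain ⟨k, hk⟩ : ∃ k : ℕ, (ψ : G → ℂ) 1 = k := by
    obtain ⟨n, ρ, -, hρ⟩ := ψ.2
    exact ⟨n, by rw [← hρ, Representation.char_one]; simp⟩
  rcases mul_self_eq_one_iff.1 h5 with h7 | h7
  · rw [e, h7]
    simpa using ψ.2
  · exfalso
    rw [e, h7] at hd1
    simp [hk] at hd1
    have := congrArg Complex.re hd1
    simp at this
    have : (0 : ℝ) ≤ k := Nat.cast_nonneg k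
    linarith

theorem isIrrCharacter_unipotent {n : ℕ} {F : Type*} [Field F] [Fintype F] (ν : Fin n → ℕ)
    (hm : Monotone ν) (hsum : ∑ i, ν i = n) :
    Cfsg.IsIrrCharacter (GL (Fin n) F) (Cfsg.unipotentCharacterGL n F ν) := by
  classical
  refine isIrr_of_norm_one (altSign ν) _ (fun κ => isCharacter_fixedPointCharacter _) _
    (unipotent_eq_sum ν) ?_ (unipotent_one_pos ν hm hsum)
  rw [classInner_unipotent hm hsum hm hsum, if_pos rfl]

end Cfsg.Agent.GLFlag
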